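import Cfsg.Agent.Lib.RegGen.Full

set_option autoImplicit false

/-!
`SL_n(F)`, `n ≥ 3`, is generated by three conjugates of a regular unipotent element.
-/

open Matrix
open scoped commutatorElement

namespace CfsgLib.RegGen

open CfsgLib.RootSub.TSL

variable {F : Type*} [Field F] {n : ℕ}


local notation "e" i:max => (Pi.single i (1 : F) : Fin n → F)

/-- The super-diagonal matrix. -/
def supDiag (F : Type*) [Field F] (n : ℕ) : Matrix (Fin n) (Fin n) F :=
  Matrix.of fun i j => if (j : ℕ) = (i : ℕ) + 1 then 1 else 0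

theorem det_one_add_supDiag : (1 + supDiag F n).det = 1 := by
  rw [Matrix.det_of_upperTriangular]
  · exact Finset.prod_eq_one fun i _ => by simp [supDiag]
  · intro i j hji
    have h1 : i ≠ j := fun h => by simp [h] at hji
    have h2 : (j : ℕ) ≠ (i : ℕ) + 1 := by
      have : (j : ℕ) < (i : ℕ) := hji
      omega
    simp [supDiag, h1, h2]

/-- The standard regular unipotent element. -/
def regU (F : Type*) [Field F] (n : ℕ) : Matrix.SpecialLinearGroup (Fin n) F :=
  ⟨1 + supDiag F n, det_one_add_supDiag⟩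

theorem regU_sub_one : (regU F n : Matrix (Fin n) (Fin n) F) - 1 = supDiag F n :=
  add_sub_cancel_left 1 _

theorem supDiag_pow (k : ℕ) (i j : Fin n) :
    (supDiag F n ^ k) i j = if (j : ℕ) = (i : ℕ) + k then 1 else 0 := by
  induction k generalizing i j with
  | zero =>
    rw [pow_zero, Matrix.one_apply, add_zero]
    simp [Fin.ext_iff, eq_comm]
  | succ k ih =>
    rw [pow_succ, Matrix.mul_apply]
    simp only [ih]
    by_cases h : (i : ℕ) + k < n
    · rw [Finset.sum_eq_single (⟨(i : ℕ) + k, h⟩ : Fin n)]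
      · simp [supDiag, add_assoc]
      · intro b _ hb
        rw [if_neg fun hh => hb (Fin.ext hh), zero_mul]
      · simp
    · rw [if_neg (by omega), Finset.sum_eq_zero]
      intro b _
      rw [if_neg (by omega), zero_mul]

theorem supDiag_nilpotent : IsNilpotent (supDiag F n) :=
  ⟨n, Matrix.ext fun i j => by rw [supDiag_pow, if_neg (by omega)]; rfl⟩

theorem supDiag_pow_ne_zero (hn : 1 ≤ n) : supDiag F n ^ (n - 1) ≠ 0 := fun h => by
  have := congrFun (congrFun h ⟨0, hn⟩) ⟨n - 1, by omega⟩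
  rw [supDiag_pow] at this
  simp at this

theorem regU_mulVec_single (j : Fin n) (k : Fin n) :
    ((regU F n : Matrix (Fin n) (Fin n) F) *ᵥ e j) k =
      (if k = j then 1 else 0) + (if (j : ℕ) = (k : ℕ) + 1 then 1 else 0) := by
  rw [Matrix.mulVec_single_one]
  simp [regU, supDiag, Matrix.one_apply]

theorem mulVec_inv_of_eq {g : (Matrix.SpecialLinearGroup (Fin n) F)} {x y : Fin n → F} (h : (g : Matrix (Fin n) (Fin n) F) *ᵥ x = y) :
    ((g⁻¹ : (Matrix.SpecialLinearGroup (Fin n) F)) : Matrix (Fin n) (Fin n) F) *ᵥ y = x := by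
  rw [← h, mulVec_mulVec, ← Matrix.SpecialLinearGroup.coe_mul, inv_mul_cancel,
    Matrix.SpecialLinearGroup.coe_one, one_mulVec]

theorem vecMul_inv_of_eq {g : (Matrix.SpecialLinearGroup (Fin n) F)} {x y : Fin n → F} (h : x ᵥ* (g : Matrix (Fin n) (Fin n) F) = y) :
    y ᵥ* ((g⁻¹ : (Matrix.SpecialLinearGroup (Fin n) F)) : Matrix (Fin n) (Fin n) F) = x := by
  rw [← h, vecMul_vecMul, ← Matrix.SpecialLinearGroup.coe_mul, mul_inv_cancel,
    Matrix.SpecialLinearGroup.coe_one, vecMul_one]

/-- A lower bidiagonal unipotent element with non-zero entries. -/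
structure IsLowerReg (v : Matrix.SpecialLinearGroup (Fin n) F) (β : Fin n → F) : Prop where
  ne : ∀ j, β j ≠ 0
  coe : ∀ k j : Fin n, (v : Matrix (Fin n) (Fin n) F) k j =
    (if k = j then 1 else 0) + (if (k : ℕ) = (j : ℕ) + 1 then β j else 0)

namespace IsLowerReg

variable {v : Matrix.SpecialLinearGroup (Fin n) F} {β : Fin n → F}

theorem mulVec_single (hv : IsLowerReg v β) (i j : Fin n) (hij : (j : ℕ) = (i : ℕ) + 1) :
    (v : Matrix (Fin n) (Fin n) F) *ᵥ e i = e i + β i • e j := by
  funext k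
  rw [Matrix.mulVec_single_one]
  have hiff : k = j ↔ (k : ℕ) = (i : ℕ) + 1 := by rw [Fin.ext_iff, hij]
  simp [hv.coe, Pi.single_apply, hiff]

theorem single_vecMul (hv : IsLowerReg v β) (i j : Fin n) (hij : (j : ℕ) = (i : ℕ) + 1) :
    e j ᵥ* (v : Matrix (Fin n) (Fin n) F) = e j + β i • e i := by
  funext k
  rw [Matrix.single_one_vecMul]
  simp only [Matrix.row, hv.coe, Pi.add_apply, Pi.smul_apply, Pi.single_apply, smul_eq_mul,
    mul_ite, mul_one, mul_zero]
  congr 1
  · simp [eq_comm]
  · by_cases hk : k = i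
    · subst hk; simp [hij]
    · rw [if_neg hk, if_neg fun h => hk (Fin.ext (by omega))]

/-- The row `e_j v⁻¹`: zero after `j`, one at `j`, non-zero before. -/
theorem inv_row (hv : IsLowerReg v β) (j : Fin n) :
    ∀ i : Fin n, ((i : ℕ) = (j : ℕ) → (e j ᵥ* ((v⁻¹ : (Matrix.SpecialLinearGroup (Fin n) F)) : Matrix (Fin n) (Fin n) F)) i = 1) ∧
      ((j : ℕ) < (i : ℕ) → (e j ᵥ* ((v⁻¹ : (Matrix.SpecialLinearGroup (Fin n) F)) : Matrix (Fin n) (Fin n) F)) i = 0) ∧
      ((i : ℕ) ≤ (j : ℕ) → (e j ᵥ* ((v⁻¹ : (Matrix.SpecialLinearGroup (Fin n) F)) : Matrix (Fin n) (Fin n) F)) i ≠ 0) := by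
  set g := e j ᵥ* ((v⁻¹ : (Matrix.SpecialLinearGroup (Fin n) F)) : Matrix (Fin n) (Fin n) F) with hg
  have heq : g ᵥ* (v : Matrix (Fin n) (Fin n) F) = e j := by
    rw [hg, vecMul_vecMul, ← Matrix.SpecialLinearGroup.coe_mul, inv_mul_cancel,
      Matrix.SpecialLinearGroup.coe_one, vecMul_one]
  have hrec : ∀ i : Fin n, g i + (if h : (i : ℕ) + 1 < n then β i * g ⟨(i : ℕ) + 1, h⟩ else 0) =
      (Pi.single j (1 : F) : Fin n → F) i := by
    intro i
    rw [← heq, Matrix.vecMul, dotProduct]
    simp only [hv.coe, mul_add, mul_ite, mul_one, mul_zero, Finset.sum_add_distrib]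
    congr 1
    · simp
    · by_cases h : (i : ℕ) + 1 < n
      · rw [dif_pos h, Finset.sum_eq_single (⟨(i : ℕ) + 1, h⟩ : Fin n)]
        · simp [mul_comm]
        · intro b _ hb
          rw [if_neg fun hh => hb (Fin.ext hh)]
        · simp
      · rw [dif_neg h, Finset.sum_eq_zero]
        intro b _
        rw [if_neg]
        omega
  suffices ∀ m : ℕ, ∀ i : Fin n, (i : ℕ) + m + 1 = n →
      ((i : ℕ) = (j : ℕ) → g i = 1) ∧ ((j : ℕ) < (i : ℕ) → g i = 0) ∧
      ((i : ℕ) ≤ (j : ℕ) → g i ≠ 0) by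
    intro i
    exact this (n - 1 - (i : ℕ)) i (by omega)
  intro m
  induction m with
  | zero =>
    intro i hi
    have h := hrec i
    rw [dif_neg (by omega), add_zero] at h
    refine ⟨fun hij => ?_, fun hij => ?_, fun hij => ?_⟩
    · rw [h, Fin.ext hij, Pi.single_eq_same]
    · rw [h, Pi.single_eq_of_ne (fun hh => by rw [hh] at hij; omega)]
    · rw [h, Fin.ext (show (i : ℕ) = (j : ℕ) by omega), Pi.single_eq_same]
      exact one_ne_zero
  | succ m ih =>
    intro i hi
    have h := hrec i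
    rw [dif_pos (by omega)] at h
    obtain ⟨h1, h2, h3⟩ := ih ⟨(i : ℕ) + 1, by omega⟩ (by simp only; omega)
    simp only at h1 h2 h3
    refine ⟨fun hij => ?_, fun hij => ?_, fun hij => ?_⟩
    · rw [h2 (by omega), mul_zero, add_zero, Fin.ext hij, Pi.single_eq_same] at h
      rw [Fin.ext hij]; exact h
    · rw [h2 (by omega), mul_zero, add_zero,
        Pi.single_eq_of_ne (fun hh => by rw [hh] at hij; omega)] at h
      exact h
    · rcases Nat.lt_or_eq_of_le hij with hlt | heq'
      · rw [Pi.single_eq_of_ne (fun hh => by rw [hh] at hlt; omega)] at h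
        intro h0
        rw [h0, zero_add] at h
        exact h3 (by omega) ((mul_eq_zero.mp h).resolve_left (hv.ne i))
      · rw [h2 (by omega), mul_zero, add_zero, Fin.ext heq', Pi.single_eq_same] at h
        rw [Fin.ext heq', h]
        exact one_ne_zero

variable {H : Subgroup (Matrix.SpecialLinearGroup (Fin n) F)}

/-- Centres along the last axis. -/
theorem full_last (hv : IsLowerReg v β) (hvH : v ∈ H) (i₀ L : Fin n) (h0 : (i₀ : ℕ) = 0)
    (hL : (L : ℕ) + 1 = n) (hF : Full H (e i₀) (e L)) :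
    ∀ i : Fin n, (i : ℕ) < (L : ℕ) → Full H (e i) (e L) := by
  suffices ∀ m : ℕ, ∀ i : Fin n, (i : ℕ) = m → (i : ℕ) < (L : ℕ) → Full H (e i) (e L) from
    fun i hi => this _ i rfl hi
  intro m
  induction m with
  | zero =>
    intro i hi _
    rwa [Fin.ext (show (i : ℕ) = (i₀ : ℕ) by omega)]
  | succ m ih =>
    intro i hi hiL
    let p : Fin n := ⟨m, by omega⟩
    have hp := ih p rfl (by simp only [p]; omega)
    have hy := hp.conj hvH
    have hne := ((hv.inv_row L) i₀).2.2 (by omega)
    have hstep := hv.mulVec_single p i (by simp only [p]; omega)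
    rw [hstep] at hy
    have hfy : e L ⬝ᵥ (e p + β p • e i) = 0 := by
      rw [single_dotProduct, one_mul, Pi.add_apply, Pi.smul_apply,
        Pi.single_eq_of_ne (fun h => by have := congrArg Fin.val h; simp only [p] at this; omega),
        Pi.single_eq_of_ne (fun h => by have := congrArg Fin.val h; omega), smul_zero, add_zero]
    have h1 := hF.comm hy hfy (by rwa [dotProduct_single, mul_one])
    have h2 := (h1.add_centre (hp.smul_centre (-1))).smul_centre (β p)⁻¹
    have heq : (β p)⁻¹ • (e p + β p • e i + (-1 : F) • e p) = e i := by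
      rw [neg_one_smul, add_neg_cancel_comm, smul_smul, inv_mul_cancel₀ (hv.ne p), one_smul]
    rwa [heq] at h2

/-- All upper root groups. -/
theorem full_upper (hv : IsLowerReg v β) (hvH : v ∈ H) (L : Fin n) (hL : (L : ℕ) + 1 = n)
    (hF : ∀ i : Fin n, (i : ℕ) < (L : ℕ) → Full H (e i) (e L)) :
    ∀ i j : Fin n, (i : ℕ) < (j : ℕ) → Full H (e i) (e j) := by
  suffices ∀ m : ℕ, ∀ i j : Fin n, (j : ℕ) + m = (L : ℕ) → (i : ℕ) < (j : ℕ) → Full H (e i) (e j) from
    fun i j hij => this ((L : ℕ) - (j : ℕ)) i j (by omega) hij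
  intro m
  induction m with
  | zero =>
    intro i j hj hij
    rw [Fin.ext (show (j : ℕ) = (L : ℕ) by omega)]
    exact hF i (by omega)
  | succ m ih =>
    intro i j hj hij
    let k : Fin n := ⟨(j : ℕ) + 1, by omega⟩
    let i' : Fin n := ⟨(i : ℕ) + 1, by omega⟩
    have h1 := ih i k (by simp only [k]; omega) (by simp only [k]; omega)
    have h2 := (h1.add_centre ((ih i' k (by simp only [k]; omega)
      (by simp only [k, i']; omega)).smul_centre (β i))).conj (inv_mem hvH)
    have hx : ((v⁻¹ : (Matrix.SpecialLinearGroup (Fin n) F)) : Matrix (Fin n) (Fin n) F) *ᵥ (e i + β i • e i') = e i :=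
      mulVec_inv_of_eq (hv.mulVec_single i i' rfl)
    rw [inv_inv, hx, hv.single_vecMul j k rfl] at h2
    have h3 := (h2.add_axis (h1.smul_axis (-1))).smul_axis (β j)⁻¹
    have heq : (β j)⁻¹ • (e k + β j • e j + (-1 : F) • e k) = e j := by
      rw [neg_one_smul, add_neg_cancel_comm, smul_smul, inv_mul_cancel₀ (hv.ne j), one_smul]
    rwa [heq] at h3

/-- All lower root groups. -/
theorem full_lower (hv : IsLowerReg v β) (hvH : v ∈ H)
    (hU : ∀ i j : Fin n, (i : ℕ) < (j : ℕ) → Full H (e i) (e j)) :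
    ∀ i j : Fin n, (j : ℕ) < (i : ℕ) → Full H (e i) (e j) := by
  suffices ∀ m : ℕ, ∀ i j : Fin n, (i : ℕ) = m → (j : ℕ) < (i : ℕ) → Full H (e i) (e j) from
    fun i j hij => this _ i j rfl hij
  intro m
  induction m with
  | zero => intro i j hi hij; omega
  | succ m ih =>
    intro i j hi hij
    let p : Fin n := ⟨m, by omega⟩
    have hpi : (i : ℕ) = (p : ℕ) + 1 := by simp only [p]; omega
    have hne : p ≠ i := fun h => by rw [h] at hpi; omega
    have hup := hU p i (by omega)
    -- the conjugate of the upper root group by `v`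
    have h1 := hup.conj hvH
    rw [hv.mulVec_single p i hpi] at h1
    set f := e i ᵥ* ((v⁻¹ : (Matrix.SpecialLinearGroup (Fin n) F)) : Matrix (Fin n) (Fin n) F) with hf
    -- clear the centre
    have hT : ∀ t : F, tv hup.1 t ∈ H := hup.2
    set t : F := -(β p)⁻¹ with ht
    have h2 := h1.conj (hT t)
    have hinv : (tv hup.1 t)⁻¹ = tv hup.1 (-t) :=
      inv_eq_of_mul_eq_one_right (by rw [← tv_add, add_neg_cancel, tv_zero])
    rw [hinv, tv_val, tv_val] at h2
    have hx2 : (1 + t • vecMulVec (e p) (e i)) *ᵥ (e p + β p • e i) = β p • e i := by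
      rw [add_mulVec, one_mulVec, smul_mulVec, vecMulVec_mulVec]
      have : e i ⬝ᵥ (e p + β p • e i) = β p := by
        simp [single_dotProduct, Pi.single_eq_of_ne hne, Pi.single_eq_of_ne hne.symm]
      rw [this, ht]
      funext k
      simp [Pi.single_apply]
      split_ifs <;> field_simp [hv.ne p] <;> ring
    rw [hx2] at h2
    set f2 := f ᵥ* (1 + (-t) • vecMulVec (e p) (e i)) with hf2
    have h3 := h2.smul_centre (β p)⁻¹
    rw [smul_smul, inv_mul_cancel₀ (hv.ne p), one_smul] at h3
    have hf2v : ∀ k, f2 k = f k + (if k = i then -t * f p else 0) := by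
      intro k
      rw [hf2, vecMul_add, vecMul_one, vecMul_smul, vecMul_vecMulVec, Pi.add_apply]
      simp [dotProduct_single, Pi.single_apply]
    have hfp : f p ≠ 0 := ((hv.inv_row i) p).2.2 (by omega)
    have hf2p : f2 p = f p := by rw [hf2v, if_neg hne, add_zero]
    have hf2i : f2 i = 0 := by
      have := h3.1
      rwa [dotProduct_single, mul_one] at this
    have hf2hi : ∀ k : Fin n, (i : ℕ) < (k : ℕ) → f2 k = 0 := by
      intro k hk
      rw [hf2v, if_neg (fun h => by rw [h] at hk; omega), add_zero]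
      exact ((hv.inv_row i) k).2.1 hk
    -- clear the axis with the known lower groups of the previous row
    set h : Fin n → F := (f2 p)⁻¹ • (f2 - f2 p • e p) with hh
    have hfull : Full H (e p) h := by
      rw [hh]
      refine Full.smul_axis ?_ _
      rw [sum_coord (f2 - f2 p • e p)]
      refine Full.sum_axis _ _ fun k _ => ?_
      by_cases hk : (k : ℕ) < (p : ℕ)
      · exact (ih p k rfl hk).smul_axis _
      · have hz : (f2 - f2 p • e p) k = 0 := by
          rw [Pi.sub_apply, Pi.smul_apply]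
          rcases eq_or_lt_of_le (Nat.le_of_not_lt hk) with hkp | hkp
          · rw [Fin.ext hkp.symm, Pi.single_eq_same, smul_eq_mul, mul_one, sub_self]
          · rw [Pi.single_eq_of_ne (fun hh => by rw [hh] at hkp; omega), smul_zero, sub_zero]
            rcases eq_or_lt_of_le (Nat.succ_le_of_lt hkp) with hki | hki
            · rw [show k = i from Fin.ext (by omega), hf2i]
            · exact hf2hi k (by omega)
        rw [hz, zero_smul]
        exact Full.zero_axis _
    have h4 := h3.conj (hfull.2 1)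
    have hinv2 : (tv hfull.1 (1 : F))⁻¹ = tv hfull.1 (-1) :=
      inv_eq_of_mul_eq_one_right (by rw [← tv_add, add_neg_cancel, tv_zero])
    rw [hinv2, tv_val, tv_val] at h4
    have hhi : h ⬝ᵥ e i = 0 := by
      rw [hh, dotProduct_single, mul_one, Pi.smul_apply, Pi.sub_apply, Pi.smul_apply, hf2i,
        Pi.single_eq_of_ne hne.symm, smul_zero, sub_zero, smul_zero]
    have hx4 : (1 + (1 : F) • vecMulVec (e p) h) *ᵥ e i = e i := by
      rw [add_mulVec, one_mulVec, smul_mulVec, vecMulVec_mulVec, hhi]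
      simp
    have hf4 : f2 ᵥ* (1 + (-1 : F) • vecMulVec (e p) h) = f2 p • e p := by
      rw [vecMul_add, vecMul_one, vecMul_smul, vecMul_vecMulVec, dotProduct_single, mul_one, hh,
        smul_smul, smul_smul, mul_assoc, mul_inv_cancel₀ (by rwa [hf2p]), mul_one, neg_one_smul]
      abel
    rw [hx4, hf4] at h4
    have h5 := h4.smul_axis (f2 p)⁻¹
    rw [smul_smul, inv_mul_cancel₀ (by rwa [hf2p]), one_smul] at h5
    by_cases hjp : (j : ℕ) = (p : ℕ)
    · rw [Fin.ext hjp]; exact h5
    · -- the commutator with the previous row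
      have hlow := ih p j rfl (by omega)
      refine Full.comm hlow h5 ?_ ?_
      · rw [single_dotProduct, one_mul,
          Pi.single_eq_of_ne (fun h => by rw [h] at hij; omega)]
      · rw [single_dotProduct, one_mul, Pi.single_eq_same]
        exact one_ne_zero

end IsLowerReg

/-- A monomial element of `SL_n` reversing the coordinates. -/
theorem exists_reversal (hn : 0 < n) : ∃ (w : (Matrix.SpecialLinearGroup (Fin n) F)) (a : Fin n → F), (∀ i, a i ≠ 0) ∧
    ∀ k j : Fin n, (w : Matrix (Fin n) (Fin n) F) k j = if k = j.rev then a j else 0 := by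
  let P : Matrix (Fin n) (Fin n) F := Matrix.of fun k j => if k = j.rev then 1 else 0
  have hP : P.det ≠ 0 := by
    have : P * P = 1 := by
      ext i j
      simp [P, Matrix.mul_apply, Matrix.one_apply]
    intro h
    have := congrArg Matrix.det this
    rw [Matrix.det_mul, h, zero_mul, Matrix.det_one] at this
    exact zero_ne_one this
  let a : Fin n → F := Function.update 1 ⟨0, hn⟩ P.det⁻¹
  refine ⟨⟨P * Matrix.diagonal a, ?_⟩, a, fun i => ?_, fun k j => ?_⟩
  · rw [Matrix.det_mul, Matrix.det_diagonal, Finset.prod_update_of_mem (Finset.mem_univ _)]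
    simp [mul_inv_cancel₀ hP]
  · by_cases h : i = ⟨0, hn⟩
    · subst h; simp [a, hP]
    · simp [a, Function.update_of_ne h]
  · show (P * Matrix.diagonal a) k j = _
    rw [Matrix.mul_diagonal]
    simp [P]

theorem three_conjugates_generate [Finite F] (hn : 3 ≤ n) :
    ∃ g h : (Matrix.SpecialLinearGroup (Fin n) F), Subgroup.closure ({regU F n, g * regU F n * g⁻¹, h * regU F n * h⁻¹} : Set (Matrix.SpecialLinearGroup (Fin n) F)) = ⊤ := by
  obtain ⟨w, a, ha, hw⟩ := exists_reversal (F := F) (n := n) (by omega)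
  set u := regU F n with hu
  set v := w * u * w⁻¹ with hvdef
  -- the columns of `v`
  let β : Fin n → F := fun j =>
    if h : (j : ℕ) + 1 < n then a (⟨(j : ℕ) + 1, h⟩ : Fin n).rev / a j.rev else 1
  have hv : IsLowerReg v β := by
    refine ⟨fun j => ?_, fun k j => ?_⟩
    · simp only [β]
      split
      · exact div_ne_zero (ha _) (ha _)
      · exact one_ne_zero
    · have hmul : v * w = w * u := by rw [hvdef, inv_mul_cancel_right]
      have h1 := congrFun (congrFun (congrArg (fun g : (Matrix.SpecialLinearGroup (Fin n) F) => (g : Matrix (Fin n) (Fin n) F)) hmul) k) j.rev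
      simp only [Matrix.SpecialLinearGroup.coe_mul, Matrix.mul_apply, hw] at h1
      rw [Finset.sum_eq_single j, Finset.sum_eq_single k.rev] at h1
      · rw [if_pos (Fin.rev_rev j).symm, if_pos (Fin.rev_rev k).symm] at h1
        rw [eq_div_iff (ha j.rev) |>.mpr h1]
        simp only [hu, regU, supDiag, Matrix.add_apply, Matrix.one_apply, Matrix.of_apply,
          Fin.rev_inj, Fin.val_rev]
        by_cases hkj : k = j
        · subst hkj
          rw [if_pos rfl, if_neg (show ¬ (n - ((k : ℕ) + 1) = n - ((k : ℕ) + 1) + 1) by omega),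
            if_neg (show ¬ ((k : ℕ) = (k : ℕ) + 1) by omega), add_zero, mul_one, div_self (ha _)]
        · rw [if_neg hkj, zero_add, zero_add]
          by_cases hk1 : (k : ℕ) = (j : ℕ) + 1
          · rw [if_pos hk1, if_pos (by omega), mul_one]
            have hk : k = (⟨(j : ℕ) + 1, by omega⟩ : Fin n) := Fin.ext hk1
            simp only [β, dif_pos (show (j : ℕ) + 1 < n by omega)]
            rw [← hk]
          · rw [if_neg hk1, if_neg (by omega), mul_zero, zero_div]
      · intro b _ hb
        rw [if_neg (fun h => hb (by rw [h, Fin.rev_rev])), zero_mul]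
      · simp
      · intro b _ hb
        rw [if_neg (fun h => hb (by rw [h, Fin.rev_rev])), mul_zero]
      · simp
  let i₀ : Fin n := ⟨0, by omega⟩
  let i₁ : Fin n := ⟨1, by omega⟩
  let L : Fin n := ⟨n - 1, by omega⟩
  have h01 : i₀ ≠ i₁ := by simp [i₀, i₁]
  have h0L : i₀ ≠ L := by simp [i₀, L]; omega
  have h1L : i₁ ≠ L := by simp [i₁, L]; omega
  have hd0 : e L ⬝ᵥ e i₀ = 0 := by rw [single_dotProduct, one_mul, Pi.single_eq_of_ne h0L.symm]
  have hd1 : e L ⬝ᵥ e i₁ = 0 := by rw [single_dotProduct, one_mul, Pi.single_eq_of_ne h1L.symm]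
  have hu0 : (u : Matrix (Fin n) (Fin n) F) *ᵥ e i₀ = e i₀ := by
    funext k
    rw [regU_mulVec_single]
    simp [Pi.single_apply, i₀]
  have hu1 : (u : Matrix (Fin n) (Fin n) F) *ᵥ e i₁ = e i₁ + e i₀ := by
    funext k
    rw [regU_mulVec_single, Pi.add_apply, Pi.single_apply, Pi.single_apply]
    congr 1
    simp [i₀, i₁, Fin.ext_iff, eq_comm]
  have huL : e L ᵥ* (u : Matrix (Fin n) (Fin n) F) = e L := by
    funext k
    rw [Matrix.single_one_vecMul]
    simp [hu, regU, supDiag, Matrix.row, L, Pi.single_apply, Matrix.one_apply, eq_comm]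
    omega
  set γ := (e L ᵥ* ((v⁻¹ : (Matrix.SpecialLinearGroup (Fin n) F)) : Matrix (Fin n) (Fin n) F)) i₀ with hγ
  have hγ0 : γ ≠ 0 := ((hv.inv_row L) i₀).2.2 (Nat.zero_le _)
  set κ := -(γ * β i₀) with hκ
  have hκ0 : κ ≠ 0 := neg_ne_zero.mpr (mul_ne_zero hγ0 (hv.ne _))
  obtain ⟨θ, hθ⟩ := IsCyclic.exists_generator (α := Fˣ)
  set c : F := -((θ : F) / κ) with hc
  set t := tv hd1 c with ht
  refine ⟨t, w, ?_⟩
  set H := Subgroup.closure ({u, t * u * t⁻¹, w * u * w⁻¹} : Set (Matrix.SpecialLinearGroup (Fin n) F)) with hH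
  have huH : u ∈ H := Subgroup.subset_closure (by simp)
  have hu'H : t * u * t⁻¹ ∈ H := Subgroup.subset_closure (by simp)
  have hvH : v ∈ H := Subgroup.subset_closure (by simp [hvdef])
  -- the set of parameters
  have hA : tv hd0 ((θ : F) / κ) ∈ H := by
    have hmem : u⁻¹ * (t * u * t⁻¹) ∈ H := mul_mem (inv_mem huH) hu'H
    have hd' := dot_conj hd1 u⁻¹
    have hconj := tv_conj hd1 u⁻¹ c hd'
    have hu1' : ((u⁻¹ : (Matrix.SpecialLinearGroup (Fin n) F)) : Matrix (Fin n) (Fin n) F) *ᵥ e i₁ = e i₁ + (-1 : F) • e i₀ := by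
      have := mulVec_inv_of_eq hu1
      rw [mulVec_add, mulVec_inv_of_eq hu0] at this
      rw [eq_sub_of_add_eq this, neg_one_smul, sub_eq_add_neg]
    have hval : u⁻¹ * (t * u * t⁻¹) = tv hd0 ((θ : F) / κ) := by
      have : u⁻¹ * (t * u * t⁻¹) = (u⁻¹ * t * (u⁻¹)⁻¹) * t⁻¹ := by simp [mul_assoc]
      rw [this, hconj]
      have hinv : t⁻¹ = tv hd1 (-c) :=
        inv_eq_of_mul_eq_one_right (by rw [ht, ← tv_add, add_neg_cancel, tv_zero])
      rw [hinv]
      refine Subtype.ext ?_
      rw [Matrix.SpecialLinearGroup.coe_mul, tv_val, tv_val, tv_val]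
      simp only [inv_inv, huL, hu1']
      simp only [Matrix.add_mul, Matrix.mul_add, Matrix.one_mul, Matrix.mul_one, Matrix.smul_mul,
        Matrix.mul_smul, vv_mul, hd1, zero_smul, smul_zero, add_zero, add_vecMulVec, smul_add,
        smul_vecMulVec, smul_smul, hc]
      module
    rwa [hval] at hmem
  have hmul : ∀ p q : F, tv hd0 p ∈ H → tv hd0 q ∈ H → tv hd0 (κ * p * q) ∈ H := by
    intro p q hp hq
    have hd' := dot_conj hd0 v
    have hq' : tv hd' q ∈ H := by
      rw [← tv_conj hd0 v q hd']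
      exact mul_mem (mul_mem hvH hq) (inv_mem hvH)
    have hstep := hv.mulVec_single i₀ i₁ rfl
    have hfy : e L ⬝ᵥ ((v : Matrix (Fin n) (Fin n) F) *ᵥ e i₀) = 0 := by
      rw [hstep, dotProduct_add, dotProduct_smul, hd0, hd1, smul_zero, add_zero]
    set d := -(p * q * γ) with hd
    have hcm : tv hfy d ∈ H := by
      have : tv hfy d = ⁅tv hd0 p, tv hd' q⁆ := by
        rw [tv_commutator hd0 hd' hfy, hd, hγ, dotProduct_single, mul_one]
      rw [this, commutatorElement_def]
      exact mul_mem (mul_mem (mul_mem hp hq') (inv_mem hp)) (inv_mem hq')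
    have hd'' := dot_conj hfy u
    have hmem2 : (u * tv hfy d * u⁻¹) * (tv hfy d)⁻¹ ∈ H :=
      mul_mem (mul_mem (mul_mem huH hcm) (inv_mem huH)) (inv_mem hcm)
    rw [tv_conj hfy u d hd''] at hmem2
    have hinv : (tv hfy d)⁻¹ = tv hfy (-d) :=
      inv_eq_of_mul_eq_one_right (by rw [← tv_add, add_neg_cancel, tv_zero])
    rw [hinv] at hmem2
    have hval : tv hd'' d * tv hfy (-d) = tv hd0 (κ * p * q) := by
      refine Subtype.ext ?_
      rw [Matrix.SpecialLinearGroup.coe_mul, tv_val, tv_val, tv_val]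
      simp only [vecMul_inv_of_eq huL, Matrix.add_mul, Matrix.mul_add, Matrix.one_mul, Matrix.mul_one,
        Matrix.smul_mul, Matrix.mul_smul, vv_mul, hfy, zero_smul, smul_zero, add_zero]
      simp only [hstep, mulVec_add, mulVec_smul, hu0, hu1, add_vecMulVec, smul_vecMulVec, smul_add,
        smul_smul]
      rw [hd, hκ]
      module
    rwa [hval] at hmem2
  have hpow : ∀ m : ℕ, tv hd0 ((θ : F) ^ (m + 1) / κ) ∈ H := by
    intro m
    induction m with
    | zero => simpa using hA
    | succ m ih =>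
      have := hmul _ _ ih hA
      rwa [show κ * ((θ : F) ^ (m + 1) / κ) * ((θ : F) / κ) = (θ : F) ^ (m + 1 + 1) / κ by
        field_simp; ring] at this
  have hfull : Full H (e i₀) (e L) := by
    refine ⟨hd0, fun x => ?_⟩
    by_cases hx : x = 0
    · rw [hx, tv_zero]; exact one_mem _
    · obtain ⟨m, hm⟩ := (mem_powers_iff_mem_zpowers).mpr (hθ (Units.mk0 (x * κ) (mul_ne_zero hx hκ0)))
      have hm' : (θ : F) ^ m = x * κ := by
        have := congrArg (fun z : Fˣ => (z : F)) hm
        simpa using this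
      have hord : (θ : F) ^ (orderOf θ) = 1 := by
        rw [← Units.val_pow_eq_pow_val, pow_orderOf_eq_one, Units.val_one]
      have hpos : 0 < orderOf θ := orderOf_pos θ
      have := hpow (m + orderOf θ - 1)
      rwa [show m + orderOf θ - 1 + 1 = m + orderOf θ by omega, pow_add, hord, mul_one, hm',
        mul_div_assoc, div_self hκ0, mul_one] at this
  have hlast := hv.full_last hvH i₀ L rfl (by simp [L]; omega) hfull
  have hup := hv.full_upper hvH L (by simp [L]; omega) hlast
  refine eq_top_of_full (by omega) fun i j hij => ?_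
  rcases Nat.lt_or_gt_of_ne (fun hh : (i : ℕ) = (j : ℕ) => hij (Fin.ext hh)) with hlt | hlt
  · exact hup i j hlt
  · exact hv.full_lower hvH hup i j hlt

end CfsgLib.RegGen
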