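import Cfsg.Agent.Lib.RegGen.Axes
import Cfsg.Agent.Lib.RegGen.Three
import Cfsg.Agent.Lib.SL2.TwoRoots

set_option autoImplicit false

/-!
`SL₃(F)`, odd characteristic, is generated by two conjugate regular unipotents.
-/

open Matrix
open scoped MatrixGroups

namespace CfsgLib.RegGen

open CfsgLib.RootSub.TSL CfsgLib.SL2

variable {F : Type*} [Field F]

local notation "M2" => Matrix (Fin 2) (Fin 2) F

/-- Characteristic three: the squares of two traces. -/
theorem three_case (h3 : (3 : F) = 0) {μ a b : F} (hprime : ∀ m : ℕ, μ ≠ (m : F))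
    (hba : μ = b - a) (hsum : a + b = -(μ ^ 2 + 1))
    (h : ((∃ i : ℕ, a = i) ∧ (∃ j : ℕ, b = j)) ∨
      ((a = 0 ∨ a = 1 ∨ a ^ 2 = -1) ∧ (b = 0 ∨ b = 1 ∨ b ^ 2 = -1))) : μ ^ 4 = 1 := by
  rcases h with ⟨⟨i, hi⟩, ⟨j, hj⟩⟩ | ⟨ha, hb⟩
  · exfalso
    apply hprime (j + 2 * i)
    push_cast
    linear_combination hba + hj - hi - (i : F) * h3
  have mixed : ∀ (i : ℕ), i ≤ 1 → ∀ c : F, c ^ 2 = -1 → μ = c - (i : F) →
      (i : F) + c = -(μ ^ 2 + 1) → False := by
    intro i hi c hc h1 h2
    interval_cases i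
    · apply hprime 0
      push_cast at h1 h2 ⊢
      linear_combination h2 - hc + (1 - μ - c) * h1 + 0 * h3
    · apply hprime 1
      push_cast at h1 h2 ⊢
      linear_combination hc - h2 + (c + μ) * h1 + 0 * h3
  have mixed' : ∀ (i : ℕ), i ≤ 1 → ∀ c : F, c ^ 2 = -1 → μ = (i : F) - c →
      (i : F) + c = -(μ ^ 2 + 1) → False := by
    intro i hi c hc h1 h2
    interval_cases i
    · apply hprime 0
      push_cast at h1 h2 ⊢
      linear_combination -h2 + hc + (μ - c + 1) * h1 + 0 * h3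
    · apply hprime 2
      push_cast at h1 h2 ⊢
      linear_combination h2 - hc + (c - μ) * h1 - h3
  rcases ha with ha | ha | ha
  all_goals rcases hb with hb | hb | hb
  · exact absurd (hba.trans (by rw [ha, hb, sub_zero])) (by simpa using hprime 0)
  · exact absurd (hba.trans (by rw [ha, hb, sub_zero])) (by simpa using hprime 1)
  · exact (mixed 0 (by norm_num) b hb (by rw [hba, ha, Nat.cast_zero]) (by rw [← hsum, ha, Nat.cast_zero])).elim
  · exfalso; apply hprime 2; push_cast; linear_combination hba + hb - ha - h3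
  · exfalso; apply hprime 0; push_cast; linear_combination hba + hb - ha
  · exact (mixed 1 le_rfl b hb (by rw [hba, ha, Nat.cast_one]) (by rw [← hsum, ha, Nat.cast_one])).elim
  · exact (mixed' 0 (by norm_num) a ha (by rw [hba, hb, Nat.cast_zero]) (by rw [← hsum, hb, Nat.cast_zero, add_comm])).elim
  · exact (mixed' 1 le_rfl a ha (by rw [hba, hb, Nat.cast_one]) (by rw [← hsum, hb, Nat.cast_one, add_comm])).elim
  · have h0 : (b - a) * (μ ^ 2 + 1) = 0 := by linear_combination (b - a) * hsum + ha - hb + 0 * hba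
    rcases mul_eq_zero.mp h0 with h | h
    · exact absurd (hba.trans h) (by simpa using hprime 0)
    · linear_combination (μ ^ 2 - 1) * h

theorem pow_trace [Finite F] {μ w : F} (hμ0 : μ ≠ 0) {k : ℕ}
    (h : proj ((up w * lo μ : SL(2, F)) ^ k) = 1) :
    (k = 2 → 2 + μ * w = 0) ∧ (k = 3 → (2 + μ * w) ^ 2 = 1) ∧
    (k = 4 → 2 + μ * w = 0 ∨ (2 + μ * w) ^ 2 = 2) ∧
    (k = 5 → (2 + μ * w) ^ 4 - 3 * (2 + μ * w) ^ 2 + 1 = 0) := by
  have h0 := entry_zero_of_proj_one h
  refine ⟨?_, ?_, ?_, ?_⟩ <;> intro hk <;> subst hk <;>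
    simp [pow_succ, Matrix.SpecialLinearGroup.coe_mul, up_coe, lo_coe, Matrix.mul_apply,
      Fin.sum_univ_two] at h0
  · refine (mul_eq_zero.mp ?_).resolve_left hμ0
    linear_combination h0
  · refine sub_eq_zero.mp ((mul_eq_zero.mp ?_).resolve_left hμ0)
    linear_combination h0
  · have : μ * ((2 + μ * w) * ((2 + μ * w) ^ 2 - 2)) = 0 := by linear_combination h0
    rcases mul_eq_zero.mp ((mul_eq_zero.mp this).resolve_left hμ0) with e | e
    · exact Or.inl e
    · exact Or.inr (sub_eq_zero.mp e)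
  · refine (mul_eq_zero.mp ?_).resolve_left hμ0
    linear_combination h0

theorem sl2_eq_top_prime [Finite F] {p : ℕ} [Fact p.Prime] [CharP F p] (hF : Nat.card F = p)
    {H : Subgroup SL(2, F)} (h1 : up (1 : F) ∈ H) {μ : F} (hμ0 : μ ≠ 0) (hμ : lo μ ∈ H) : H = ⊤ := by
  haveI := Fintype.ofFinite F
  have hsurj : ∀ c : F, ∃ j : ℕ, (j : F) = c := by
    have hbij : Function.Bijective (ZMod.castHom (dvd_refl p) F) := by
      refine (Fintype.bijective_iff_injective_and_card _).mpr ⟨RingHom.injective _, ?_⟩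
      rw [ZMod.card, Fintype.card_eq_nat_card, hF]
    intro c
    obtain ⟨z, hz⟩ := hbij.2 c
    refine ⟨z.val, ?_⟩
    rw [← hz, ← map_natCast (ZMod.castHom (dvd_refl p) F), ZMod.natCast_zmod_val]
  refine CfsgLib.Classical.eq_top_of_transvection_mem H fun i j hij c => ?_
  have hu : ∀ k : ℕ, up (k : F) ∈ H := by
    intro k
    induction k with
    | zero => rw [Nat.cast_zero, up_zero]; exact one_mem H
    | succ k ih => rw [Nat.cast_succ, up_add]; exact mul_mem ih h1
  have hl : ∀ k : ℕ, lo ((k : F) * μ) ∈ H := by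
    intro k
    induction k with
    | zero =>
      have : lo ((((0 : ℕ) : F)) * μ) = 1 := Subtype.ext (by simp [lo_coe, Matrix.one_fin_two])
      rw [this]; exact one_mem H
    | succ k ih =>
      have : lo ((((k + 1 : ℕ) : F)) * μ) = lo ((k : F) * μ) * lo μ := Subtype.ext (by
        rw [Matrix.SpecialLinearGroup.coe_mul, lo_coe, lo_coe, lo_coe]
        simp [Matrix.mul_fin_two, add_mul])
      rw [this]; exact mul_mem ih hμ
  fin_cases i <;> fin_cases j
  · exact absurd rfl hij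
  · obtain ⟨k, rfl⟩ := hsurj c
    convert hu k using 1
    refine Subtype.ext ?_
    rw [SpecialLinearGroup.transvection_coe, up_coe]
    ext a b
    fin_cases a <;> fin_cases b <;> simp
  · obtain ⟨k, hk⟩ := hsurj (c / μ)
    have := hl k
    rw [hk, div_mul_cancel₀ c hμ0] at this
    convert this using 1
    refine Subtype.ext ?_
    rw [SpecialLinearGroup.transvection_coe, lo_coe]
    ext a b
    fin_cases a <;> fin_cases b <;> simp
  · exact absurd rfl hij

/-- A subgroup of `SL₂(F)` with `up 1` and `lo μ`, `μ` a generator, is everything. -/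
theorem sl2_eq_top_of_one [Finite F] {p : ℕ} [Fact p.Prime] [CharP F p] (hp2 : p ≠ 2)
    (hnp : Nat.card F ≠ p) {H : Subgroup SL(2, F)} (h1 : up (1 : F) ∈ H)
    {μ : F} (hμ : lo μ ∈ H) (hgen : ∀ K : Subfield F, μ ∈ K → K = ⊤)
    (hA5 : p = 3 → μ ^ 4 ≠ 1) : H = ⊤ := by
  have hp : p.Prime := Fact.out
  have hp3 : 3 ≤ p := by have := hp.two_le; omega
  haveI := Fintype.ofFinite F
  -- elements of the prime field
  have hprime : ∀ m : ℕ, μ ≠ (m : F) := by
    intro m hm
    have htop := hgen (ZMod.castHom (dvd_refl p) F).fieldRange ⟨m, by rw [map_natCast, hm]⟩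
    apply hnp
    have hbij : Function.Bijective (ZMod.castHom (dvd_refl p) F) :=
      ⟨RingHom.injective _, fun y => RingHom.mem_fieldRange.1 (htop ▸ Subfield.mem_top y)⟩
    rw [← Nat.card_eq_of_bijective _ hbij, Nat.card_zmod]
  have hμ0 : μ ≠ 0 := by simpa using hprime 0
  have h2 : (2 : F) ≠ 0 := by
    intro e
    have : ((2 : ℕ) : F) = 0 := by exact_mod_cast e
    rw [CharP.cast_eq_zero_iff F p] at this
    exact hp2 ((Nat.prime_dvd_prime_iff_eq hp Nat.prime_two).mp this)
  set Hb := H.map proj with hHb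
  have hmem : ∀ g ∈ H, proj g ∈ Hb := fun g hg => Subgroup.mem_map_of_mem _ hg
  have hupow : ∀ k : ℕ, up ((k : F)) ∈ H := by
    intro k
    induction k with
    | zero => rw [Nat.cast_zero, up_zero]; exact one_mem H
    | succ k ih => rw [Nat.cast_succ, up_add]; exact mul_mem ih h1
  have hordp : orderOf (proj (up (1 : F))) = p := by
    refine orderOf_eq_prime ?_ ?_
    · rw [← map_pow]
      have : ∀ k : ℕ, up (1 : F) ^ k = up (k : F) := by
        intro k
        induction k with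
        | zero => rw [pow_zero, Nat.cast_zero, up_zero]
        | succ k ih => rw [pow_succ, ih, Nat.cast_succ, up_add]
      rw [this, CharP.cast_eq_zero F p, up_zero, map_one]
    · intro e
      exact one_ne_zero (proj_up_injective (e.trans (by rw [up_zero, map_one]) : proj (up (1 : F)) = proj (up 0)))
  have hpd : p ∣ Nat.card Hb := by
    rw [← hordp]
    exact Subgroup.orderOf_dvd_natCard Hb (hmem _ h1)
  have hpow : ∀ {A : Type} [Group A] (_ : Hb ≃* A) (_ : ∀ σ : A, σ ^ 2 = 1 ∨ σ ^ 3 = 1 ∨ σ ^ 4 = 1 ∨ σ ^ 5 = 1)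
      (j : ℕ), 2 + μ * (j : F) = 0 ∨ (2 + μ * (j : F)) ^ 2 = 1 ∨ (2 + μ * (j : F)) ^ 2 = 2 ∨
        (2 + μ * (j : F)) ^ 4 - 3 * (2 + μ * (j : F)) ^ 2 + 1 = 0 := by
    intro A _ e hex j
    have hwm : proj (up (j : F) * lo μ) ∈ Hb := hmem _ (mul_mem (hupow j) hμ)
    rcases hex (e ⟨_, hwm⟩) with he | he | he | he
    · exact Or.inl ((pow_trace hμ0 (pow_of_equiv e he)).1 rfl)
    · exact Or.inr (Or.inl ((pow_trace hμ0 (pow_of_equiv e he)).2.1 rfl))
    · rcases (pow_trace hμ0 (pow_of_equiv e he)).2.2.1 rfl with h | h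
      · exact Or.inl h
      · exact Or.inr (Or.inr (Or.inl h))
    · exact Or.inr (Or.inr (Or.inr ((pow_trace hμ0 (pow_of_equiv e he)).2.2.2 rfl)))
  have hexc : ∀ {A : Type} [Group A] (_ : Hb ≃* A) (_ : (∀ σ : A, σ ^ 2 = 1 ∨ σ ^ 3 = 1 ∨ σ ^ 4 = 1) ∨
      (∀ σ : A, σ ^ 2 = 1 ∨ σ ^ 3 = 1 ∨ σ ^ 5 = 1)), p ∣ 60 ∨ p ∣ 24 → False := by
    intro A _ e hexs hd
    have hex : ∀ σ : A, σ ^ 2 = 1 ∨ σ ^ 3 = 1 ∨ σ ^ 4 = 1 ∨ σ ^ 5 = 1 := by
      intro σ
      rcases hexs with h | h <;> have := h σ <;> tauto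
    have h35 : p = 3 ∨ p = 5 := by
      have hle : p ∣ 2 ^ 3 * (3 * 5) := by
        rcases hd with h | h
        · exact h.trans (by norm_num)
        · exact h.trans (by norm_num)
      rcases hp.dvd_mul.mp hle with h | h
      · exact absurd ((Nat.prime_dvd_prime_iff_eq hp Nat.prime_two).mp (hp.dvd_of_dvd_pow h)) hp2
      · rcases hp.dvd_mul.mp h with h | h
        · exact Or.inl ((Nat.prime_dvd_prime_iff_eq hp Nat.prime_three).mp h)
        · exact Or.inr ((Nat.prime_dvd_prime_iff_eq hp (by norm_num)).mp h)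
    rcases h35 with rfl | rfl
    · have h3 : (3 : F) = 0 := CharP.cast_eq_zero F 3
      -- the squares of the traces
      have hj : ∀ j : ℕ, proj (up (j : F) * lo μ) ∈ Hb := fun j => hmem _ (mul_mem (hupow j) hμ)
      have hba : μ = (2 + μ * 2) ^ 2 - (2 + μ) ^ 2 := by linear_combination (-μ - μ ^ 2) * h3
      have hsum : (2 + μ) ^ 2 + (2 + μ * 2) ^ 2 = -(μ ^ 2 + 1) := by
        linear_combination (3 + 4 * μ + 2 * μ ^ 2) * h3
      refine hA5 rfl (three_case h3 hprime hba hsum ?_)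
      rcases hexs with hS | hA
      · left
        have : ∀ j : ℕ, ∃ i : ℕ, (2 + μ * (j : F)) ^ 2 = i := by
          intro j
          rcases hS (e ⟨_, hj j⟩) with he | he | he
          · exact ⟨0, by rw [(pow_trace hμ0 (pow_of_equiv e he)).1 rfl]; simp⟩
          · exact ⟨1, by rw [(pow_trace hμ0 (pow_of_equiv e he)).2.1 rfl]; simp⟩
          · rcases (pow_trace hμ0 (pow_of_equiv e he)).2.2.1 rfl with h | h
            · exact ⟨0, by rw [h]; simp⟩
            · exact ⟨2, by rw [h]; simp⟩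
        exact ⟨by simpa using this 1, by simpa using this 2⟩
      · right
        have : ∀ j : ℕ, (2 + μ * (j : F)) ^ 2 = 0 ∨ (2 + μ * (j : F)) ^ 2 = 1 ∨
            ((2 + μ * (j : F)) ^ 2) ^ 2 = -1 := by
          intro j
          rcases hA (e ⟨_, hj j⟩) with he | he | he
          · exact Or.inl (by rw [(pow_trace hμ0 (pow_of_equiv e he)).1 rfl]; simp)
          · exact Or.inr (Or.inl ((pow_trace hμ0 (pow_of_equiv e he)).2.1 rfl))
          · refine Or.inr (Or.inr ?_)
            linear_combination (pow_trace hμ0 (pow_of_equiv e he)).2.2.2 rfl + (2 + μ * (j : F)) ^ 2 * h3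
        exact ⟨by simpa using this 1, by simpa using this 2⟩
    · have h5 : (5 : F) = 0 := CharP.cast_eq_zero F 5
      have key : ∀ r : F, (r = 0 ∨ r ^ 2 = 1 ∨ r ^ 2 = 2 ∨ r ^ 4 - 3 * r ^ 2 + 1 = 0) →
          r = 0 ∨ r = 1 ∨ r = 4 ∨ r = 2 ∨ r = 3 ∨ r ^ 2 = 2 := by
        rintro r (h | h | h | h)
        · exact Or.inl h
        · rcases mul_eq_zero.mp (show (r - 1) * (r - 4) = 0 by linear_combination h + (1 - r) * h5) with e | e
          · exact Or.inr (Or.inl (sub_eq_zero.mp e))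
          · exact Or.inr (Or.inr (Or.inl (sub_eq_zero.mp e)))
        · exact Or.inr (Or.inr (Or.inr (Or.inr (Or.inr h))))
        · have : ((r - 2) * (r - 3)) ^ 2 = 0 := by
            linear_combination h + (-2 * r ^ 3 + 8 * r ^ 2 - 12 * r + 7) * h5
          rcases mul_eq_zero.mp (pow_eq_zero_iff two_ne_zero |>.mp this) with e | e
          · exact Or.inr (Or.inr (Or.inr (Or.inl (sub_eq_zero.mp e))))
          · exact Or.inr (Or.inr (Or.inr (Or.inr (Or.inl (sub_eq_zero.mp e)))))
      have hnr : ∀ (j : ℕ), (j : F) ≠ 0 → ∀ m : ℕ, 2 + μ * (j : F) ≠ (m : F) := by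
        intro j hj m hm
        obtain ⟨i, hi⟩ : ∃ i : ℕ, (i : F) * (j : F) = 1 := by
          have hdj : ¬ 5 ∣ j := fun hd => hj ((CharP.cast_eq_zero_iff F 5 j).mpr hd)
          have hz5 : ((j : ZMod 5)) ≠ 0 := fun e => hdj ((CharP.cast_eq_zero_iff (ZMod 5) 5 j).mp e)
          refine ⟨((j : ZMod 5)⁻¹).val, ?_⟩
          rw [← map_natCast (ZMod.castHom (dvd_refl 5) F), ← map_natCast (ZMod.castHom (dvd_refl 5) F) j,
            ← map_mul, ZMod.natCast_zmod_val, inv_mul_cancel₀ hz5, map_one]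
        apply hprime (i * (m + 3))
        push_cast
        linear_combination (i : F) * hm - μ * hi - (i : F) * h5
      have hk1 := key _ (hpow e hex 1)
      have hk2 := key _ (hpow e hex 2)
      have hj1 : ((1 : ℕ) : F) ≠ 0 := by simp
      have hj2 : ((2 : ℕ) : F) ≠ 0 := by simpa using h2
      rcases hk1 with h | h | h | h | h | h
      · exact hnr 1 hj1 0 (by simpa using h)
      · exact hnr 1 hj1 1 (by simpa using h)
      · exact hnr 1 hj1 4 (by simpa using h)
      · exact hnr 1 hj1 2 (by simpa using h)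
      · exact hnr 1 hj1 3 (by simpa using h)
      rcases hk2 with h' | h' | h' | h' | h' | h'
      · exact hnr 2 hj2 0 (by simpa using h')
      · exact hnr 2 hj2 1 (by simpa using h')
      · exact hnr 2 hj2 4 (by simpa using h')
      · exact hnr 2 hj2 2 (by simpa using h')
      · exact hnr 2 hj2 3 (by simpa using h')
      -- two square roots of two
      push_cast at h h'
      have : μ * (4 + 3 * μ) = 0 := by linear_combination h' - h
      rcases mul_eq_zero.mp this with e | e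
      · exact hμ0 e
      · apply hprime 2
        push_cast
        linear_combination 2 * e + (-μ - 2) * h5
  have htop : Hb = ⊤ := by
    rcases dickson_in p Hb with ⟨c, -, hc, h⟩ | ⟨y, hy⟩ | h | h | h | h
    · exfalso
      have hco : Nat.Coprime p (orderOf c) := (hp.coprime_iff_not_dvd).2 hc
      rcases h with ⟨-, h⟩ | h
      · rw [h] at hpd
        exact hc hpd
      · obtain ⟨e⟩ := h
        rw [Nat.card_congr e.toEquiv, DihedralGroup.nat_card] at hpd
        have := Nat.le_of_dvd two_pos (hco.dvd_of_dvd_mul_right hpd)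
        omega
    · exfalso
      obtain ⟨g, rfl⟩ := proj_surjective y
      have h1' := hy _ (hmem _ h1)
      have h2' := hy _ (hmem _ hμ)
      rw [← map_inv, ← map_mul, ← map_mul, proj_mem_borelPSL] at h1' h2'
      rw [Matrix.SpecialLinearGroup.coe_mul, Matrix.SpecialLinearGroup.coe_mul,
        Matrix.SpecialLinearGroup.coe_inv] at h1' h2'
      simp [up_coe, lo_coe, Matrix.adjugate_fin_two, Matrix.mul_apply, Fin.sum_univ_two] at h1' h2'
      have hc0 : (g : M2) 1 0 = 0 := by
        have : (g : M2) 1 0 ^ 2 = 0 := by linear_combination -h1'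
        simpa using this
      have hd0 : (g : M2) 1 1 = 0 := by
        have : μ * (g : M2) 1 1 ^ 2 = 0 := by linear_combination h2'
        simpa [hμ0] using this
      have := det_eq g
      rw [hc0, hd0] at this
      simp at this
    · obtain ⟨e⟩ := h
      rw [Nat.card_congr e.toEquiv, show Nat.card (alternatingGroup (Fin 4)) = 12 by
        rw [Nat.card_eq_fintype_card]; decide +kernel] at hpd
      exact (hexc e (Or.inr (by decide +kernel)) (Or.inr (hpd.trans (by norm_num)))).elim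
    · obtain ⟨e⟩ := h
      rw [Nat.card_congr e.toEquiv, card_perm_four] at hpd
      exact (hexc e (Or.inl (by decide +kernel)) (Or.inr hpd)).elim
    · obtain ⟨e⟩ := h
      rw [Nat.card_congr e.toEquiv, show Nat.card (alternatingGroup (Fin 5)) = 60 by
        rw [Nat.card_eq_fintype_card]; decide +kernel] at hpd
      exact (hexc e (Or.inr (by decide +kernel)) (Or.inl hpd)).elim
    · obtain ⟨K, fK, fT, m, -, hsh, f, D, hD⟩ := h
      have hsq : ∀ j : ℕ, (2 + μ * (j : F)) ^ 2 ∈ f.fieldRange := fun j => by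
        have := trace_sq_mem_range f D hD (hmem _ (mul_mem (hupow j) hμ))
        rw [up_mul_lo_trace, mul_comm] at this
        exact this
      have hμK : μ ∈ f.fieldRange := by
        have ha := hsq 1
        have hb := hsq 2
        rw [Nat.cast_one, mul_one] at ha
        rw [Nat.cast_ofNat] at hb
        have h4 : (4 : F) ∈ f.fieldRange := ⟨4, map_ofNat f 4⟩
        have h8 : (8 : F) ∈ f.fieldRange := ⟨8, map_ofNat f 8⟩
        have h12 : (12 : F) ∈ f.fieldRange := ⟨12, map_ofNat f 12⟩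
        have h8' : (8 : F) ≠ 0 := by
          rw [show (8 : F) = 2 * 2 * 2 by norm_num]
          exact mul_ne_zero (mul_ne_zero h2 h2) h2
        have := f.fieldRange.div_mem (f.fieldRange.sub_mem (f.fieldRange.sub_mem (f.fieldRange.mul_mem h4 ha) hb) h12) h8
        rwa [show (4 * (2 + μ) ^ 2 - (2 + μ * 2) ^ 2 - 12) / 8 = μ by field_simp; ring] at this
      have hKtop : f.fieldRange = ⊤ := hgen _ hμK
      have hsurj : Function.Surjective f := fun y => RingHom.mem_fieldRange.1 (hKtop ▸ Subfield.mem_top y)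
      have hcard : Nat.card K = Nat.card F := Nat.card_eq_of_bijective f ⟨f.injective, hsurj⟩
      exact Subgroup.eq_top_of_le_card _ (card_PSL_le_of_equiv hcard hsh)
  have hneg : ∀ g : SL(2, F), g ^ p = 1 → g ∈ H := by
    intro g hg
    obtain ⟨x, hx, e⟩ : proj g ∈ Hb := htop ▸ Subgroup.mem_top _
    rcases eq_or_eq_neg_of_proj_eq e with rfl | rfl
    · exact hx
    · have hodd : Odd p := hp.odd_of_ne_two hp2
      have := pow_mem hx (p + 1)
      have hx' : x = -(-x) := (neg_neg x).symm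
      rwa [hx', Even.neg_pow (Nat.even_add_one.2 (Nat.not_even_iff_odd.2 hodd)), pow_succ, hg, one_mul] at this
  refine CfsgLib.Classical.eq_top_of_transvection_mem H fun i j hij c => hneg _ ?_
  refine Subtype.ext ?_
  rw [Matrix.SpecialLinearGroup.coe_pow, Matrix.SpecialLinearGroup.transvection_coe]
  simp only [Matrix.SpecialLinearGroup.coe_one]
  show Matrix.transvection i j c ^ p = 1
  have key : ∀ k : ℕ, Matrix.transvection i j c ^ k = Matrix.transvection i j ((k : F) * c) := by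
    intro k
    induction k with
    | zero => simp
    | succ k ih =>
      rw [pow_succ, ih, Matrix.transvection_mul_transvection_same _ _ hij]
      congr 1; push_cast; ring
  rw [key, CharP.cast_eq_zero F p, zero_mul, Matrix.transvection_zero]

section Construction

local notation "SL3" => Matrix.SpecialLinearGroup (Fin 3) F

theorem regU_three :
    (regU F 3 : Matrix (Fin 3) (Fin 3) F) = !![1, 1, 0; 0, 1, 1; 0, 0, 1] := by
  ext i j
  fin_cases i <;> fin_cases j <;> simp [regU, supDiag]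

/-- Choice of the parameter. -/
theorem exists_param [Finite F] {p : ℕ} [Fact p.Prime] [CharP F p] (hp2 : p ≠ 2) (hnp : Nat.card F ≠ p) :
    ∃ s : F, s ≠ 0 ∧ s ^ 3 ≠ 1 ∧ ∀ a μ : F, a = 4 / (s ^ 3 - 1) → μ = -8 * (a * (a + 4) + 8) →
      μ ≠ 0 ∧ (∀ K : Subfield F, μ ∈ K → K = ⊤) ∧ (p = 3 → μ ^ 4 ≠ 1) := by
  haveI := Fintype.ofFinite F
  have hp : p.Prime := Fact.out
  obtain ⟨θ, hθ⟩ := IsCyclic.exists_generator (α := Fˣ)
  have hord : orderOf θ = Nat.card F - 1 := by
    rw [orderOf_eq_card_of_forall_mem_zpowers hθ, Nat.card_units]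
  obtain ⟨n, -, hn⟩ := FiniteField.card F p
  rw [Fintype.card_eq_nat_card] at hn
  have hn2 : 2 ≤ (n : ℕ) := by
    rcases Nat.lt_or_ge (n : ℕ) 2 with h | h
    · exact absurd (by rw [hn, show (n : ℕ) = 1 from le_antisymm (by omega) n.pos, pow_one]) hnp
    · exact h
  have hpow : ∀ k : ℕ, (θ : F) ^ k = 1 ↔ Nat.card F - 1 ∣ k := by
    intro k
    rw [← hord, orderOf_dvd_iff_pow_eq_one, ← Units.val_pow_eq_pow_val, Units.val_eq_one]
  have h9 : 9 ≤ Nat.card F := by
    have h1 : p ^ 2 ≤ p ^ (n : ℕ) := Nat.pow_le_pow_right hp.pos hn2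
    have h2 : 3 ^ 2 ≤ p ^ 2 := Nat.pow_le_pow_left (by have := hp.two_le; omega) 2
    rw [hn]
    omega
  have h2F : (2 : F) ≠ 0 := Ring.two_ne_zero (by rwa [ringChar.eq F p])
  have h8 : (8 : F) ≠ 0 := by
    rw [show (8 : F) = 2 * 2 * 2 by norm_num]; exact mul_ne_zero (mul_ne_zero h2F h2F) h2F
  have h4 : (4 : F) ≠ 0 := by
    rw [show (4 : F) = 2 * 2 by norm_num]; exact mul_ne_zero h2F h2F
  set S : F := (θ : F) ^ 3 with hS
  have hS0 : S ≠ 0 := pow_ne_zero _ θ.ne_zero
  have hS1 : S ≠ 1 := by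
    rw [hS, Ne, hpow]; intro h; have := Nat.le_of_dvd (by norm_num) h; omega
  refine ⟨(θ : F), θ.ne_zero, hS1, fun a μ ha hμ => ?_⟩
  rw [← hS] at ha
  have ha1 : a * (S - 1) = 4 := by rw [ha, div_mul_cancel₀ _ (sub_ne_zero.mpr hS1)]
  set σ := a * (a + 4) with hσ
  have hσS : σ * (S - 1) ^ 2 = 16 * S := by
    rw [hσ]; linear_combination ((a + 4) * (S - 1) + 4) * ha1
  have hσ0 : σ ≠ 0 := by
    intro h
    rw [h, zero_mul] at hσS
    refine hS0 ((mul_eq_zero.mp hσS.symm).resolve_left ?_)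
    rw [show (16 : F) = 8 * 2 by norm_num]; exact mul_ne_zero h8 h2F
  set w := S + 1 / S with hw
  have hwσ : w = 16 / σ + 2 := by
    rw [hw]
    field_simp
    linear_combination hσS
  have hfrob : ∀ k : ℕ, 1 ≤ k → w ^ k = w → S ^ k + 1 / S ^ k = S + 1 / S →
      Nat.card F - 1 ∣ 3 * (k - 1) ∨ Nat.card F - 1 ∣ 3 * (k + 1) := by
    intro k hk _ he
    have : (S ^ k - S) * (S ^ k * S - 1) = 0 := by
      field_simp at he
      linear_combination he
    rcases mul_eq_zero.mp this with h | h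
    · left
      rw [← hpow, pow_mul, ← hS]
      have h' : S ^ (k - 1) * S = 1 * S := by
        rw [one_mul, ← pow_succ, Nat.sub_add_cancel hk]; exact sub_eq_zero.mp h
      exact mul_right_cancel₀ hS0 h'
    · right
      rw [← hpow, pow_mul, ← hS, pow_succ]
      exact sub_eq_zero.mp h
  have hgen : ∀ K : Subfield F, μ ∈ K → K = ⊤ := by
    intro K hK
    by_contra hne
    set k := Nat.card K with hk
    have hσK : σ ∈ K := by
      have : σ = (μ + 64) / (-8) := by rw [hμ]; field_simp; ring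
      rw [this]
      exact div_mem (add_mem hK (natCast_mem K 64)) (neg_mem (natCast_mem K 8))
    have hwK : w ∈ K := by
      rw [hwσ]; exact add_mem (div_mem (natCast_mem K 16) hσK) (natCast_mem K 2)
    haveI : Fintype K := Fintype.ofFinite K
    have hwk : w ^ k = w := by
      have := FiniteField.pow_card (⟨w, hwK⟩ : K)
      rw [Fintype.card_eq_nat_card] at this
      exact congrArg Subtype.val this
    obtain ⟨d, hdp, hd⟩ : ∃ d, 0 < d ∧ k = p ^ d := by
      haveI : CharP K p := (K.subtype.charP_iff Subtype.val_injective p).2 inferInstance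
      obtain ⟨d, -, hd⟩ := FiniteField.card K p
      exact ⟨d, d.pos, by rw [hk, ← Fintype.card_eq_nat_card, hd]⟩
    have hSk : S ^ k + 1 / S ^ k = S + 1 / S := by
      rw [← hw, ← hwk, hw, hd, add_pow_char_pow, div_pow, one_pow]
    have hk1 : 1 ≤ k := Nat.one_le_iff_ne_zero.mpr (by rw [hd]; exact pow_ne_zero _ hp.pos.ne')
    have hkF : ∃ m, 2 ≤ m ∧ k ^ m = Nat.card F := by
      refine ⟨Module.finrank K F, ?_, (Module.natCard_eq_pow_finrank (K := K) (V := F)).symm⟩
      by_contra hlt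
      have hpos : 0 < Module.finrank K F := Module.finrank_pos
      have h1 : Module.finrank K F = 1 := by omega
      have h2 := Module.natCard_eq_pow_finrank (K := K) (V := F)
      rw [h1, pow_one] at h2
      apply hne
      rw [eq_top_iff]
      intro x _
      have hbij : Function.Bijective (fun z : K => (z : F)) :=
        (Nat.bijective_iff_injective_and_card _).mpr ⟨Subtype.val_injective, h2.symm⟩
      obtain ⟨z, rfl⟩ := hbij.2 x
      exact z.2
    obtain ⟨m, hm2, hm⟩ := hkF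
    have hk3 : 3 ≤ k := by
      rw [hd]
      calc 3 ≤ p := by have := hp.two_le; omega
        _ ≤ p ^ d := Nat.le_self_pow hdp.ne' p
    have hkk : k * k ≤ Nat.card F := by
      rw [← hm, ← sq]; exact Nat.pow_le_pow_right (by omega) hm2
    have hle : Nat.card F - 1 ≤ 3 * (k + 1) := by
      rcases hfrob k hk1 hwk hSk with h | h
      · exact (Nat.le_of_dvd (Nat.mul_pos (by norm_num) (by omega)) h).trans (by omega)
      · exact Nat.le_of_dvd (by omega) h
    have hk4 : k ≤ 4 := by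
      by_contra hk5
      have : 5 * k ≤ k * k := Nat.mul_le_mul_right k (by omega)
      omega
    have hk3' : k = 3 := by
      rcases Nat.lt_or_ge k 4 with h | h
      · omega
      · have h4' : p ^ d = 4 := by omega
        have : p ∣ 2 ^ 2 := by rw [show (2:ℕ) ^ 2 = 4 from rfl, ← h4']; exact dvd_pow_self p hdp.ne'
        exact absurd ((Nat.prime_dvd_prime_iff_eq hp Nat.prime_two).mp (hp.dvd_of_dvd_pow this)) hp2
    rw [hk3'] at hm hle
    have hm' : m = 2 := by
      by_contra h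
      have : 3 ^ 3 ≤ 3 ^ m := Nat.pow_le_pow_right (by norm_num) (by omega)
      omega
    rw [hm'] at hm
    rcases hfrob k hk1 hwk hSk with h | h <;>
    · rw [hk3', ← hm] at h
      norm_num at h
  have hprime : ∀ m : ℕ, μ ≠ (m : F) := by
    intro m h
    have htop := hgen (ZMod.castHom (dvd_refl p) F).fieldRange ⟨m, by rw [map_natCast, h]⟩
    apply hnp
    have hbij : Function.Bijective (ZMod.castHom (dvd_refl p) F) :=
      ⟨RingHom.injective _, fun y => RingHom.mem_fieldRange.1 (htop ▸ Subfield.mem_top y)⟩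
    rw [← Nat.card_eq_of_bijective _ hbij, Nat.card_zmod]
  refine ⟨by simpa using hprime 0, hgen, fun hp3 h4μ => ?_⟩
  subst hp3
  have h3 : (3 : F) = 0 := CharP.cast_eq_zero F 3
  have hm2 : μ ^ 2 = -1 := by
    rcases mul_eq_zero.mp (show ((μ - 1) * (μ + 1)) * (μ ^ 2 + 1) = 0 by linear_combination h4μ) with h | h
    · exfalso
      rcases mul_eq_zero.mp h with h | h
      · exact hprime 1 (by push_cast; linear_combination h)
      · exact hprime 2 (by push_cast; linear_combination h - h3)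
    · linear_combination h
  have hσμ : σ = μ + 1 := by rw [hμ]; linear_combination (3 * σ + 21) * h3
  have hwμ : w = μ + 1 := by
    rw [hwσ, hσμ]
    have hne : μ + 1 ≠ 0 := fun h => hprime 2 (by push_cast; linear_combination h - h3)
    field_simp
    linear_combination -hm2 + 6 * h3
  have hw2 : w ^ 2 = -μ := by rw [hwμ]; linear_combination hm2 + μ * h3
  have hw9 : w ^ 9 = w := by
    linear_combination w * ((w ^ 2) ^ 3 + (w ^ 2) ^ 2 * (-μ) + w ^ 2 * μ ^ 2 + (-μ) ^ 3) * hw2 + w * h4μ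
  have hS9 : S ^ 9 + 1 / S ^ 9 = S + 1 / S := by
    rw [← hw, ← hw9, hw, show (9 : ℕ) = 3 ^ 2 from rfl, add_pow_char_pow, div_pow, one_pow]
  have hle : Nat.card F - 1 ≤ 30 := by
    rcases hfrob 9 (by norm_num) hw9 hS9 with h | h
    · exact (Nat.le_of_dvd (by norm_num) h).trans (by norm_num)
    · exact (Nat.le_of_dvd (by norm_num) h).trans (by norm_num)
  have hn3 : (n : ℕ) ≤ 3 := by
    by_contra h
    have : 3 ^ 4 ≤ 3 ^ (n : ℕ) := Nat.pow_le_pow_right (by norm_num) (by omega)
    omega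
  rcases Nat.lt_or_ge (n : ℕ) 3 with h | h
  · have hn' : (n : ℕ) = 2 := by omega
    rw [hn', show (3 : ℕ) ^ 2 = 9 from rfl] at hn
    have hS8 : S ^ 8 = 1 := by
      rw [hS, ← pow_mul, hpow, hn]; norm_num
    have hS4 : S ^ 4 = -1 := by
      refine eq_neg_of_add_eq_zero_left ?_
      rcases mul_eq_zero.mp (show (S ^ 4 - 1) * (S ^ 4 + 1) = 0 by linear_combination hS8) with h | h
      · exfalso
        have h1 := sub_eq_zero.mp h
        rw [hS, ← pow_mul, hpow, hn] at h1
        norm_num at h1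
      · exact h
    have : w ^ 2 = 2 := by
      rw [hw]
      field_simp
      linear_combination hS4
    exact hprime 1 (by push_cast; linear_combination -(hw2.symm.trans this) - h3)
  · have hn' : (n : ℕ) = 3 := by omega
    rw [hn', show (3 : ℕ) ^ 3 = 27 from rfl] at hn
    rcases hfrob 9 (by norm_num) hw9 hS9 with h | h <;> rw [hn] at h <;> norm_num at h

theorem two_generate_odd [Finite F] {p : ℕ} [Fact p.Prime] [CharP F p] (hp2 : p ≠ 2) :
    ∃ g : SL3, Subgroup.closure ({regU F 3, g * regU F 3 * g⁻¹} : Set SL3) = ⊤ := by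
  have h2F : (2 : F) ≠ 0 := Ring.two_ne_zero (by rwa [ringChar.eq F p])
  obtain ⟨s, hs0, hs1, hμ⟩ : ∃ s : F, s ≠ 0 ∧ s ^ 3 ≠ 1 ∧
      ∀ a μ : F, a = 4 / (s ^ 3 - 1) → μ = -8 * (a * (a + 4) + 8) →
        μ ≠ 0 ∧ (Nat.card F ≠ p → (∀ K : Subfield F, μ ∈ K → K = ⊤) ∧ (p = 3 → μ ^ 4 ≠ 1)) := by
    by_cases hnp : Nat.card F = p
    · refine ⟨-1, neg_ne_zero.mpr one_ne_zero, fun h => h2F (by linear_combination -h), fun a μ ha hμ => ?_⟩
      have ha' : a = -2 := by
        rw [ha, show ((-1 : F) ^ 3 - 1) = -2 by ring, div_eq_iff (neg_ne_zero.mpr h2F)]; ring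
      refine ⟨?_, fun h => absurd hnp h⟩
      rw [hμ, ha', show -8 * ((-2 : F) * (-2 + 4) + 8) = -(2 ^ 5) by ring]
      exact neg_ne_zero.mpr (pow_ne_zero _ h2F)
    · obtain ⟨s, h0, h1, h⟩ := exists_param (F := F) hp2 hnp
      exact ⟨s, h0, h1, fun a μ ha hμ => ⟨(h a μ ha hμ).1, fun _ => (h a μ ha hμ).2⟩⟩
  set a := 4 / (s ^ 3 - 1) with ha
  have hS1 : s ^ 3 - 1 ≠ 0 := sub_ne_zero.mpr hs1
  have h4 : (4 : F) ≠ 0 := by
    rw [show (4 : F) = 2 * 2 by norm_num]; exact mul_ne_zero h2F h2F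
  have ha0 : a ≠ 0 := div_ne_zero h4 hS1
  have haS : a * s ^ 3 = a + 4 := by
    rw [ha]; field_simp; ring
  set b := -4 - a with hb
  have hb0 : b ≠ 0 := fun h => mul_ne_zero ha0 (pow_ne_zero 3 hs0) (by rw [haS]; linear_combination -h + hb)
  obtain ⟨hμ0, hμgen⟩ := hμ a _ rfl rfl
  set μ := -8 * (a * (a + 4) + 8) with hμdef
  set k := (a * s)⁻¹ with hk
  have hk3 : k ^ 3 * (-(a ^ 2 * b)) = 1 := by
    rw [hk, inv_pow, inv_mul_eq_iff_eq_mul₀ (pow_ne_zero _ (mul_ne_zero ha0 hs0))]
    linear_combination (-(a ^ 2)) * hb - a ^ 2 * haS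
  let P : SL3 := ⟨k • !![0, 0, 1; 0, a, 0; a * b, a * b, 0], by
    rw [Matrix.det_smul, Matrix.det_fin_three]
    simp
    linear_combination hk3⟩
  refine ⟨P, ?_⟩
  set u := regU F 3 with hu
  set v := P * u * P⁻¹ with hv
  have hvmat : (v : Matrix (Fin 3) (Fin 3) F) = !![1, 0, 0; a, 1, 0; a * b, b, 1] := by
    have hvP : (!![1, 0, 0; a, 1, 0; a * b, b, 1] : Matrix (Fin 3) (Fin 3) F) * (P : Matrix (Fin 3) (Fin 3) F) =
        (P : Matrix (Fin 3) (Fin 3) F) * (u : Matrix (Fin 3) (Fin 3) F) := by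
      rw [hu, regU_three]
      ext i j
      fin_cases i <;> fin_cases j <;> simp [P, Matrix.mul_apply, Fin.sum_univ_three] <;> ring
    rw [hv, Matrix.SpecialLinearGroup.coe_mul, Matrix.SpecialLinearGroup.coe_mul, ← hvP, Matrix.mul_assoc,
      ← Matrix.SpecialLinearGroup.coe_mul, mul_inv_cancel, Matrix.SpecialLinearGroup.coe_one, Matrix.mul_one]
  set H := Subgroup.closure ({u, v} : Set SL3) with hH
  have huH : u ∈ H := Subgroup.subset_closure (by simp)
  have hvH : v ∈ H := Subgroup.subset_closure (by simp)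
  set x : Fin 3 → F := ![1, -(2 + a), b] with hx
  set f : Fin 3 → F := ![-a, -2, 1] with hf
  set y : Fin 3 → F := ![-1 - a, -6 - 2 * a, b] with hy
  set g : Fin 3 → F := ![-a, a - 2, 3 - a] with hg
  have hfx : f ⬝ᵥ x = 0 := by
    simp [hf, hx, dotProduct, Fin.sum_univ_three]; linear_combination hb
  have hT : tv hfx 1 ∈ H := by
    have : tv hfx 1 = (u * v) ^ 2 := by
      refine Subtype.ext ?_
      rw [tv_val, Matrix.SpecialLinearGroup.coe_pow, Matrix.SpecialLinearGroup.coe_mul, hu, regU_three,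
        hvmat, pow_two]
      ext i j
      fin_cases i <;> fin_cases j <;>
        simp [hx, hf, hb, Matrix.mul_apply, Fin.sum_univ_three, vecMulVec_apply] <;> ring
    rw [this]; exact pow_mem (mul_mem huH hvH) 2
  have hMx : (u : Matrix (Fin 3) (Fin 3) F) *ᵥ x = y := by
    rw [hu, regU_three]
    funext i
    fin_cases i <;> simp [hx, hy, hb, Matrix.mulVec, dotProduct, Fin.sum_univ_three] <;> ring
  have hgM : g ᵥ* (u : Matrix (Fin 3) (Fin 3) F) = f := by
    rw [hu, regU_three]
    funext i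
    fin_cases i <;> simp [hg, hf, Matrix.vecMul, dotProduct, Fin.sum_univ_three] <;> ring
  have hgy : g ⬝ᵥ y = 0 := by
    rw [← hMx, dotProduct_mulVec, hgM, hfx]
  set A := a * (a + 4) + 8 with hA
  have hfy : f ⬝ᵥ y = A := by
    simp [hf, hy, hA, hb, dotProduct, Fin.sum_univ_three]; ring
  have hgx : g ⬝ᵥ x = -8 := by
    simp [hg, hx, hb, dotProduct, Fin.sum_univ_three]; ring
  have hA0 : A ≠ 0 := fun h => hμ0 (by rw [hμdef, h, mul_zero])
  have h8 : (-8 : F) ≠ 0 := fun h => hμ0 (by rw [hμdef, h, zero_mul])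
  have hTy : tv hgy 1 ∈ H := by
    have hd := dot_conj hfx u
    have h1 : u * tv hfx 1 * u⁻¹ ∈ H := mul_mem (mul_mem huH hT) (inv_mem huH)
    rw [tv_conj hfx u 1 hd] at h1
    convert h1 using 1
    exact tv_congr _ _ _ _ (by rw [hMx, vecMul_inv_of_eq hgM])
  -- the SL₂ on the pair
  set w : Fin 3 → F := A⁻¹ • y with hw
  set ψ : Fin 3 → F := (-8 : F)⁻¹ • g with hψ
  have h1 : ψ ⬝ᵥ w = 0 := by rw [hψ, hw, smul_dotProduct, dotProduct_smul, hgy, smul_zero, smul_zero]
  have h2 : f ⬝ᵥ w = 1 := by rw [hw, dotProduct_smul, hfy, smul_eq_mul, inv_mul_cancel₀ hA0]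
  have h3 : ψ ⬝ᵥ x = 1 := by rw [hψ, smul_dotProduct, hgx, smul_eq_mul, inv_mul_cancel₀ h8]
  set φ := sl2Hom x w f ψ hfx h1 h2 h3 with hφdef
  have hup : ∀ c : F, φ (up c) = tv hfx c := fun c => Subtype.ext (by
    rw [hφdef, sl2Hom_val, tv_val]
    simp [up_coe])
  have hlo : φ (lo μ) = tv hgy 1 := Subtype.ext (by
    rw [hφdef, sl2Hom_val, tv_val]
    simp [lo_coe, hw, hψ, smul_vecMulVec, vv_smul, smul_smul, hμdef]
    rw [show (8 : F) * A * ((8 : F)⁻¹ * A⁻¹) = 1 by
      rw [mul_mul_mul_comm, mul_inv_cancel₀ (by simpa using h8), mul_inv_cancel₀ hA0, one_mul], one_smul])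
  have hcomap : H.comap φ = ⊤ := by
    have hu1 : up (1 : F) ∈ H.comap φ := by show φ _ ∈ H; rw [hup]; exact hT
    have hl1 : lo μ ∈ H.comap φ := by show φ _ ∈ H; rw [hlo]; exact hTy
    by_cases hnp : Nat.card F = p
    · exact sl2_eq_top_prime hnp hu1 hμ0 hl1
    · exact sl2_eq_top_of_one hp2 hnp hu1 hl1 (hμgen hnp).1 (hμgen hnp).2
  have hF : Full H x f := ⟨hfx, fun c => by
    have : up c ∈ H.comap φ := hcomap ▸ Subgroup.mem_top _
    rw [← hup]; exact this⟩
  refine top_of_full_three hF huH (mul_mem huH huH) (y := y) (g := g)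
    (z := ![-7 - 3 * a, -10 - 3 * a, b]) (h := ![-a, 2 * a - 2, 5 - 3 * a]) hMx hgM ?_ ?_
    (by rw [hfy]; exact hA0) (by rw [hgx]; exact h8) ?_ ?_
  · rw [Matrix.SpecialLinearGroup.coe_mul, ← mulVec_mulVec, hMx, hu, regU_three]
    funext i
    fin_cases i <;> simp [hy, hb, Matrix.mulVec, dotProduct, Fin.sum_univ_three] <;> ring
  · rw [Matrix.SpecialLinearGroup.coe_mul, ← vecMul_vecMul, hu, regU_three]
    funext i
    fin_cases i <;> simp [hf, Matrix.vecMul, dotProduct, Fin.sum_univ_three] <;> ring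
  · have : (Matrix.of ![x, y, ![-7 - 3 * a, -10 - 3 * a, b]]).det = -b ^ 3 := by
      rw [Matrix.det_fin_three]
      simp [hx, hy, hb]
      ring
    rw [this]
    exact neg_ne_zero.mpr (pow_ne_zero _ hb0)
  · have : (Matrix.of ![f, g, ![-a, 2 * a - 2, 5 - 3 * a]]).det = a ^ 3 := by
      rw [Matrix.det_fin_three]
      simp [hf, hg]
      ring
    rw [this]
    exact pow_ne_zero _ ha0

end Construction

end CfsgLib.RegGen
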