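import Cfsg.Agent.Lib.RegGen.Full

set_option autoImplicit false

/-!
Three dimensions: one full transvection group in general position generates with two movers.
-/

open Matrix
open scoped commutatorElement

namespace CfsgLib.RegGen

open CfsgLib.RootSub.TSL

variable {F : Type*} [Field F] {n : ℕ}

/-- Conjugation by an invertible matrix on `SL_n`. -/
noncomputable def glConj (P : Matrix (Fin n) (Fin n) F) (hP : IsUnit P.det) :
    Matrix.SpecialLinearGroup (Fin n) F ≃* Matrix.SpecialLinearGroup (Fin n) F where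
  toFun g := ⟨P * g.1 * P⁻¹, by
    rw [Matrix.det_mul, Matrix.det_mul, g.2, mul_one, Matrix.det_nonsing_inv, Ring.mul_inverse_cancel _ hP]⟩
  invFun g := ⟨P⁻¹ * g.1 * P, by
    rw [Matrix.det_mul, Matrix.det_mul, g.2, mul_one, Matrix.det_nonsing_inv, Ring.inverse_mul_cancel _ hP]⟩
  left_inv g := Subtype.ext (by
    show P⁻¹ * (P * g.1 * P⁻¹) * P = g.1
    rw [Matrix.mul_assoc P, Matrix.nonsing_inv_mul_cancel_left _ _ hP,
      Matrix.nonsing_inv_mul_cancel_right _ _ hP])
  right_inv g := Subtype.ext (by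
    show P * (P⁻¹ * g.1 * P) * P⁻¹ = g.1
    rw [Matrix.mul_assoc P⁻¹, Matrix.mul_nonsing_inv_cancel_left _ _ hP,
      Matrix.mul_nonsing_inv_cancel_right _ _ hP])
  map_mul' g h := Subtype.ext (by
    show P * (g.1 * h.1) * P⁻¹ = P * g.1 * P⁻¹ * (P * h.1 * P⁻¹)
    simp only [Matrix.mul_assoc, Matrix.nonsing_inv_mul_cancel_left _ _ hP])

/-- Linearly independent full axes generate. -/
theorem eq_top_of_axes (hn : 2 ≤ n) {H : Subgroup (Matrix.SpecialLinearGroup (Fin n) F)}
    (B : Matrix (Fin n) (Fin n) F) (hB : IsUnit B.det)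
    (h : ∀ i y, B i ⬝ᵥ y = 0 → Full H y (B i)) : H = ⊤ := by
  let σ := glConj B⁻¹ (Matrix.isUnit_nonsing_inv_det B hB)
  have hK : H.comap σ.toMonoidHom = ⊤ := by
    refine eq_top_of_full hn fun i j hij => ?_
    set y : Fin n → F := B⁻¹ *ᵥ Pi.single i 1 with hy
    have hyd : B j ⬝ᵥ y = 0 := by
      have h1 : (B *ᵥ y) j = (Pi.single i (1 : F) : Fin n → F) j := by
        rw [hy, mulVec_mulVec, Matrix.mul_nonsing_inv _ hB, one_mulVec]
      rw [Pi.single_eq_of_ne hij.symm] at h1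
      exact h1
    obtain ⟨hd, hc⟩ := h j y hyd
    refine ⟨by rw [single_dotProduct, one_mul, Pi.single_eq_of_ne hij.symm], fun c => ?_⟩
    show σ _ ∈ H
    convert hc c using 1
    refine Subtype.ext ?_
    show B⁻¹ * (1 + c • vecMulVec (Pi.single i 1) (Pi.single j 1)) * (B⁻¹)⁻¹ = _
    rw [tv_val, Matrix.nonsing_inv_nonsing_inv _ hB, Matrix.mul_add, Matrix.mul_one, Matrix.add_mul,
      Matrix.nonsing_inv_mul _ hB, Matrix.mul_smul, Matrix.smul_mul, mul_vecMulVec, vecMulVec_mul,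
      ← hy, Matrix.single_one_vecMul]
    rfl
  rw [eq_top_iff]
  intro g _
  have : σ.symm g ∈ H.comap σ.toMonoidHom := hK ▸ Subgroup.mem_top _
  simpa [Subgroup.mem_comap] using this

/-- All centres of an axis. -/
def AxisFull (H : Subgroup (Matrix.SpecialLinearGroup (Fin n) F)) (φ : Fin n → F) : Prop :=
  ∀ y, φ ⬝ᵥ y = 0 → Full H y φ

theorem AxisFull.conj {H : Subgroup (Matrix.SpecialLinearGroup (Fin n) F)} {φ : Fin n → F}
    (h : AxisFull H φ) {g : Matrix.SpecialLinearGroup (Fin n) F} (hg : g ∈ H) :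
    AxisFull H (φ ᵥ* ((g⁻¹ : Matrix.SpecialLinearGroup (Fin n) F) : Matrix (Fin n) (Fin n) F)) := by
  intro y hy
  set y' := ((g⁻¹ : Matrix.SpecialLinearGroup (Fin n) F) : Matrix (Fin n) (Fin n) F) *ᵥ y with hy'
  have h1 := (h y' (by rwa [hy', dotProduct_mulVec])).conj hg
  rwa [hy', mulVec_mulVec, ← Matrix.SpecialLinearGroup.coe_mul, mul_inv_cancel,
    Matrix.SpecialLinearGroup.coe_one, one_mulVec] at h1

variable {H : Subgroup (Matrix.SpecialLinearGroup (Fin 3) F)}

theorem eq_zero_of_three {x y z q : Fin 3 → F} (hdet : (Matrix.of ![x, y, z]).det ≠ 0)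
    (hx : q ⬝ᵥ x = 0) (hy : q ⬝ᵥ y = 0) (hz : q ⬝ᵥ z = 0) : q = 0 := by
  refine Matrix.eq_zero_of_mulVec_eq_zero hdet ?_
  funext i
  fin_cases i
  · show x ⬝ᵥ q = 0; rw [dotProduct_comm]; exact hx
  · show y ⬝ᵥ q = 0; rw [dotProduct_comm]; exact hy
  · show z ⬝ᵥ q = 0; rw [dotProduct_comm]; exact hz

theorem axisFull_of_two {w p z φ h : Fin 3 → F} (hw : Full H w φ) (hz : Full H z h)
    (hφz : φ ⬝ᵥ z = 0) (hφp : φ ⬝ᵥ p ≠ 0) (hdet : (Matrix.of ![w, p, z]).det ≠ 0) (hh : h ≠ 0) :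
    AxisFull H φ := by
  have hzφ : Full H z φ := by
    by_cases hhw : h ⬝ᵥ w = 0
    · set k := h ⬝ᵥ p / (φ ⬝ᵥ p) with hk
      have hq : h - k • φ = 0 := eq_zero_of_three hdet
        (by rw [sub_dotProduct, smul_dotProduct, hhw, hw.1, smul_zero, sub_zero])
        (by rw [sub_dotProduct, smul_dotProduct, hk, smul_eq_mul, div_mul_cancel₀ _ hφp, sub_self])
        (by rw [sub_dotProduct, smul_dotProduct, hz.1, hφz, smul_zero, sub_zero])
      rw [sub_eq_zero] at hq
      have hk0 : k ≠ 0 := fun e => hh (by rw [hq, e, zero_smul])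
      have := (hq ▸ hz).smul_axis k⁻¹
      rwa [smul_smul, inv_mul_cancel₀ hk0, one_smul] at this
    · exact hw.comm hz hφz hhw
  intro c hc
  set P : Matrix (Fin 3) (Fin 3) F := (Matrix.of ![w, p, z])ᵀ with hP
  have hPd : IsUnit P.det := by rw [hP, Matrix.det_transpose]; exact isUnit_iff_ne_zero.mpr hdet
  set κ := P⁻¹ *ᵥ c with hκ
  have hck : c = κ 0 • w + κ 1 • p + κ 2 • z := by
    have : P *ᵥ κ = c := by rw [hκ, mulVec_mulVec, Matrix.mul_nonsing_inv _ hPd, one_mulVec]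
    rw [← this]
    funext i
    simp [hP, Matrix.mulVec, dotProduct, Fin.sum_univ_three]
    ring
  rw [hck, dotProduct_add, dotProduct_add, dotProduct_smul, dotProduct_smul, dotProduct_smul,
    hw.1, hφz, smul_zero, smul_zero, add_zero, zero_add, smul_eq_mul] at hc
  rw [hck, (mul_eq_zero.mp hc).resolve_right hφp, zero_smul, add_zero]
  exact (hw.smul_centre _).add_centre (hzφ.smul_centre _)

theorem top_of_full_three {x f : Fin 3 → F} (hF : Full H x f)
    {M N : Matrix.SpecialLinearGroup (Fin 3) F} (hM : M ∈ H) (hN : N ∈ H) {y g z h : Fin 3 → F}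
    (hy : (M : Matrix (Fin 3) (Fin 3) F) *ᵥ x = y) (hg : g ᵥ* (M : Matrix (Fin 3) (Fin 3) F) = f)
    (hz : (N : Matrix (Fin 3) (Fin 3) F) *ᵥ x = z) (hh : h ᵥ* (N : Matrix (Fin 3) (Fin 3) F) = f)
    (hfy : f ⬝ᵥ y ≠ 0) (hgx : g ⬝ᵥ x ≠ 0) (hP : (Matrix.of ![x, y, z]).det ≠ 0)
    (hQ : (Matrix.of ![f, g, h]).det ≠ 0) : H = ⊤ := by
  have vi : ∀ (K : Matrix.SpecialLinearGroup (Fin 3) F) (a b : Fin 3 → F),
      a ᵥ* (K : Matrix (Fin 3) (Fin 3) F) = b →
      b ᵥ* ((K⁻¹ : Matrix.SpecialLinearGroup (Fin 3) F) : Matrix (Fin 3) (Fin 3) F) = a := by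
    intro K a b e
    rw [← e, vecMul_vecMul, ← Matrix.SpecialLinearGroup.coe_mul, mul_inv_cancel,
      Matrix.SpecialLinearGroup.coe_one, vecMul_one]
  have hgY : Full H y g := by
    have := hF.conj hM
    rwa [hy, vi M g f hg] at this
  have hhZ : Full H z h := by
    have := hF.conj hN
    rwa [hz, vi N h f hh] at this
  have hh0 : h ≠ 0 := fun e => hQ (Matrix.det_eq_zero_of_row_eq_zero 2 fun j => by simp [e])
  have hAf : AxisFull H f := by
    by_cases hfz : f ⬝ᵥ z = 0
    · exact axisFull_of_two hF hhZ hfz hfy hP hh0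
    by_cases hgz : g ⬝ᵥ z = 0
    · have hA : AxisFull H g := by
        refine axisFull_of_two hgY hhZ hgz hgx ?_ hh0
        intro e
        apply hP
        rw [Matrix.det_fin_three] at e ⊢
        simp at e ⊢
        linear_combination -e
      have := hA.conj (inv_mem hM)
      rwa [inv_inv, hg] at this
    · set s := f ⬝ᵥ z / ((f ⬝ᵥ y) * (g ⬝ᵥ z)) with hs
      set S := tv hgY.1 s with hS
      have hSH : S ∈ H := hgY.2 s
      have hw := hF.conj hSH
      have e1 : (S : Matrix (Fin 3) (Fin 3) F) *ᵥ x = x + (s * (g ⬝ᵥ x)) • y := by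
        rw [hS, tv_val, add_mulVec, one_mulVec, smul_mulVec, vecMulVec_mulVec]
        simp [smul_smul]
      have e2 : f ᵥ* ((S⁻¹ : Matrix.SpecialLinearGroup (Fin 3) F) : Matrix (Fin 3) (Fin 3) F) =
          f + (-(s * (f ⬝ᵥ y))) • g := by
        have : S⁻¹ = tv hgY.1 (-s) :=
          inv_eq_of_mul_eq_one_right (by rw [hS, ← tv_add, add_neg_cancel, tv_zero])
        rw [this, tv_val, vecMul_add, vecMul_one, vecMul_smul, vecMul_vecMulVec, smul_smul, neg_mul]
      rw [e1, e2] at hw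
      have hA : AxisFull H (f + (-(s * (f ⬝ᵥ y))) • g) := by
        refine axisFull_of_two (p := y) hw hhZ ?_ ?_ ?_ hh0
        · rw [add_dotProduct, smul_dotProduct, hs, smul_eq_mul]
          field_simp
          ring
        · rw [add_dotProduct, smul_dotProduct, hgY.1, smul_zero, add_zero]
          exact hfy
        · intro e
          apply hP
          rw [Matrix.det_fin_three] at e ⊢
          simp at e ⊢
          linear_combination e
      have := hA.conj (inv_mem hSH)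
      have e3 : (f + (-(s * (f ⬝ᵥ y))) • g) ᵥ* (S : Matrix (Fin 3) (Fin 3) F) = f := by
        rw [← e2, vecMul_vecMul, ← Matrix.SpecialLinearGroup.coe_mul, inv_mul_cancel,
          Matrix.SpecialLinearGroup.coe_one, vecMul_one]
      rwa [inv_inv, e3] at this
  have hAg : AxisFull H g := by
    have := hAf.conj hM
    rwa [vi M g f hg] at this
  have hAh : AxisFull H h := by
    have := hAf.conj hN
    rwa [vi N h f hh] at this
  refine eq_top_of_axes (by norm_num) (Matrix.of ![f, g, h]) (isUnit_iff_ne_zero.mpr hQ) fun i => ?_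
  fin_cases i
  exacts [hAf, hAg, hAh]

end CfsgLib.RegGen
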