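import Cfsg.Agent.Lib.RegGen.Three

set_option autoImplicit false

/-!
`SL_n(F)`, `n ≥ 4`, is generated by a regular unipotent `u` and its conjugate by a corner transvection.
-/

open Matrix
open scoped commutatorElement

namespace CfsgLib.RegGen

open CfsgLib.RootSub.TSL

variable {F : Type*} [Field F] {n : ℕ}

/-- Three transvections in Heisenberg position: a double commutator of the two quotients. -/
theorem double_commutator {G : Type*} [Group G] (t₀ t₁ t₂ X₀₁ X₁₂ X₀₂ W : G)
    (h01 : t₀ * t₁ = X₀₁ * (t₁ * t₀)) (h12 : t₁ * t₂ = X₁₂ * (t₂ * t₁)) (h02 : t₀ * t₂ = X₀₂ * (t₂ * t₀))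
    (hW : t₀ * X₁₂ = W * (X₁₂ * t₀))
    (c010 : Commute t₀ X₀₁) (c011 : Commute t₁ X₀₁) (c121 : Commute t₁ X₁₂) (c122 : Commute t₂ X₁₂)
    (cW0 : Commute t₀ W) (cW1 : Commute t₁ W) (cW2 : Commute t₂ W) (cW12 : Commute X₁₂ W)
    (cW01 : Commute X₀₁ W) (c020 : Commute t₀ X₀₂) (c021 : Commute t₁ X₀₂) (c022 : Commute t₂ X₀₂)
    (c0212 : Commute X₁₂ X₀₂) (cW02 : Commute X₀₂ W) :
    ⁅t₀ * t₁⁻¹, ⁅t₀ * t₁⁻¹, t₁ * t₂⁻¹⁆⁆ = W := by
  set a := t₀ * t₁⁻¹ with ha
  have e1 : a * t₁ * a⁻¹ = X₀₁ * t₁ := by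
    rw [ha]
    calc t₀ * t₁⁻¹ * t₁ * (t₀ * t₁⁻¹)⁻¹ = t₀ * t₁ * t₀⁻¹ := by group
      _ = X₀₁ * t₁ := by rw [h01]; group
  have e12 : a * X₁₂ * a⁻¹ = W * X₁₂ := by
    rw [ha]
    calc t₀ * t₁⁻¹ * X₁₂ * (t₀ * t₁⁻¹)⁻¹ = t₀ * (t₁⁻¹ * X₁₂) * t₁ * t₀⁻¹ := by group
      _ = t₀ * X₁₂ * t₀⁻¹ := by rw [c121.inv_left.eq]; group
      _ = W * X₁₂ := by rw [hW]; group
  have e2 : a * t₂ * a⁻¹ = X₁₂⁻¹ * W⁻¹ * X₀₂ * t₂ := by
    rw [ha]
    have k1 : t₁⁻¹ * t₂ * t₁ = X₁₂⁻¹ * t₂ := by
      have q : X₁₂ * (t₁⁻¹ * t₂ * t₁) = t₂ := by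
        calc X₁₂ * (t₁⁻¹ * t₂ * t₁) = (X₁₂ * t₁⁻¹) * (t₂ * t₁) := by group
          _ = t₁⁻¹ * (X₁₂ * (t₂ * t₁)) := by rw [← c121.inv_left.eq]; group
          _ = t₂ := by rw [← h12]; group
      calc t₁⁻¹ * t₂ * t₁ = X₁₂⁻¹ * (X₁₂ * (t₁⁻¹ * t₂ * t₁)) := by group
        _ = X₁₂⁻¹ * t₂ := by rw [q]
    calc t₀ * t₁⁻¹ * t₂ * (t₀ * t₁⁻¹)⁻¹ = t₀ * (t₁⁻¹ * t₂ * t₁) * t₀⁻¹ := by group
      _ = (t₀ * X₁₂ * t₀⁻¹)⁻¹ * (t₀ * t₂ * t₀⁻¹) := by rw [k1]; group
      _ = X₁₂⁻¹ * W⁻¹ * X₀₂ * t₂ := by rw [hW, h02]; group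
  have ez : ⁅a, t₁ * t₂⁻¹⁆ = X₀₁ * X₁₂ * (X₀₂⁻¹ * W) := by
    rw [commutatorElement_def]
    calc a * (t₁ * t₂⁻¹) * a⁻¹ * (t₁ * t₂⁻¹)⁻¹ = (a * t₁ * a⁻¹) * (a * t₂ * a⁻¹)⁻¹ * t₂ * t₁⁻¹ := by group
      _ = X₀₁ * t₁ * (t₂⁻¹ * (X₀₂⁻¹ * (W * X₁₂))) * t₂ * t₁⁻¹ := by rw [e1, e2]; group
      _ = X₀₁ * t₁ * (((X₀₂⁻¹ * (W * X₁₂)) * t₂⁻¹) * t₂) * t₁⁻¹ := by
          rw [((c022.inv_right).mul_right (cW2.mul_right c122)).inv_left.eq]; group
      _ = X₀₁ * (t₁ * (X₀₂⁻¹ * (W * X₁₂))) * t₁⁻¹ := by group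
      _ = X₀₁ * (X₀₂⁻¹ * (W * X₁₂)) := by
          rw [((c021.inv_right).mul_right (cW1.mul_right c121)).eq]; group
      _ = X₀₁ * X₁₂ * (X₀₂⁻¹ * W) := by
          rw [← mul_assoc X₀₂⁻¹, ← ((c0212.inv_right).mul_right cW12).eq, mul_assoc]
  rw [commutatorElement_def a, ez]
  have ca1 : Commute a X₀₁ := (c010.mul_left c011.inv_left)
  have caW : Commute a W := (cW0.mul_left cW1.inv_left)
  have ca2 : Commute a X₀₂ := (c020.mul_left c021.inv_left)
  have e3 : a * (X₀₁ * X₁₂ * (X₀₂⁻¹ * W)) * a⁻¹ = W * (X₀₁ * X₁₂ * (X₀₂⁻¹ * W)) := by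
    calc a * (X₀₁ * X₁₂ * (X₀₂⁻¹ * W)) * a⁻¹
        = (a * X₀₁ * a⁻¹) * (a * X₁₂ * a⁻¹) * (a * (X₀₂⁻¹ * W) * a⁻¹) := by group
      _ = X₀₁ * (W * X₁₂) * (X₀₂⁻¹ * W) := by
          rw [ca1.eq, (ca2.inv_right.mul_right caW).eq, e12]; group
      _ = W * (X₀₁ * X₁₂ * (X₀₂⁻¹ * W)) := by rw [← mul_assoc X₀₁, cW01.eq]; group
  rw [e3]; group

theorem tv_inv {x f : Fin n → F} (h : f ⬝ᵥ x = 0) (c : F) : (tv h c)⁻¹ = tv h (-c) :=
  inv_eq_of_mul_eq_one_right (by rw [← tv_add, add_neg_cancel, tv_zero])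

theorem tv_swap {x f y g : Fin n → F} (hx : f ⬝ᵥ x = 0) (hy : g ⬝ᵥ y = 0) (hfy : f ⬝ᵥ y = 0)
    (a b : F) : tv hx a * tv hy b = tv hfy (-(a * b * (g ⬝ᵥ x))) * (tv hy b * tv hx a) := by
  rw [← tv_commutator hx hy hfy, commutatorElement_def]; group

theorem tv_commute {x f y g : Fin n → F} (hx : f ⬝ᵥ x = 0) (hy : g ⬝ᵥ y = 0) (hfy : f ⬝ᵥ y = 0)
    (hgx : g ⬝ᵥ x = 0) (a b : F) : Commute (tv hx a) (tv hy b) := by
  show tv hx a * tv hy b = tv hy b * tv hx a
  rw [tv_swap hx hy hfy, hgx, mul_zero, neg_zero, tv_zero, one_mul]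

theorem regU_coe_pow (k : ℕ) (i j : Fin n) :
    ((regU F n ^ k : Matrix.SpecialLinearGroup (Fin n) F) : Matrix (Fin n) (Fin n) F) i j =
      if (i : ℕ) ≤ (j : ℕ) then (k.choose ((j : ℕ) - (i : ℕ)) : F) else 0 := by
  rw [Matrix.SpecialLinearGroup.coe_pow]
  show ((1 + supDiag F n) ^ k) i j = _
  rw [add_comm, (Commute.one_right _).add_pow, Matrix.sum_apply]
  simp only [one_pow, mul_one, ← nsmul_eq_mul', Matrix.smul_apply, supDiag_pow, smul_ite, smul_zero,
    nsmul_eq_mul, mul_one]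
  by_cases hij : (i : ℕ) ≤ (j : ℕ)
  · rw [if_pos hij]
    by_cases hk : (j : ℕ) - (i : ℕ) ≤ k
    · rw [Finset.sum_eq_single ((j : ℕ) - (i : ℕ))]
      · rw [if_pos (by omega)]
      · intro b _ hb
        rw [if_neg (by omega)]
      · intro h
        exact absurd (Finset.mem_range.mpr (by omega)) h
    · rw [Nat.choose_eq_zero_of_lt (by omega), Nat.cast_zero, Finset.sum_eq_zero]
      intro b hb
      rw [if_neg]
      rw [Finset.mem_range] at hb
      omega
  · rw [if_neg hij, Finset.sum_eq_zero]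
    intro b _
    rw [if_neg (by omega)]

/-- `p^a ≤ n` exactly dividing `n` gives a non-vanishing binomial coefficient. -/
theorem choose_shift_modEq (p : ℕ) [Fact p.Prime] (a N : ℕ) :
    N.choose (p ^ a) ≡ N / p ^ a [MOD p] := by
  induction a generalizing N with
  | zero => simp [Nat.ModEq.refl]
  | succ a ih =>
    have h := Choose.choose_modEq_choose_mod_mul_choose_div_nat (n := N) (k := p ^ (a + 1)) (p := p)
    have e1 : p ^ (a + 1) % p = 0 := Nat.mod_eq_zero_of_dvd (dvd_pow_self p (Nat.succ_ne_zero a))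
    have e2 : p ^ (a + 1) / p = p ^ a := by
      rw [pow_succ, Nat.mul_div_cancel _ (Fact.out : p.Prime).pos]
    rw [e1, e2, Nat.choose_zero_right, one_mul] at h
    refine h.trans ((ih (N / p)).trans ?_)
    rw [Nat.div_div_eq_div_mul, ← pow_succ']

theorem two_conjugates_generate [Finite F] (hn : 4 ≤ n) :
    ∃ g : Matrix.SpecialLinearGroup (Fin n) F,
      Subgroup.closure ({regU F n, g * regU F n * g⁻¹} : Set (Matrix.SpecialLinearGroup (Fin n) F)) = ⊤ := by
  classical
  set u := regU F n with hu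
  let Z : Fin n := ⟨0, by omega⟩
  let L : Fin n := ⟨n - 1, by omega⟩
  let E : Fin n → Fin n → F := fun i => Pi.single i 1
  set φ : Fin n → F := E Z with hφ
  let R : ℕ → Fin n → F := fun k => ((u ^ k : Matrix.SpecialLinearGroup (Fin n) F) : Matrix (Fin n) (Fin n) F) *ᵥ E L
  let Φ : ℕ → Fin n → F := fun k => φ ᵥ* (((u ^ k)⁻¹ : Matrix.SpecialLinearGroup (Fin n) F) : Matrix (Fin n) (Fin n) F)
  have hR0 : R 0 = E L := by simp [R]
  have hΦ0 : Φ 0 = φ := by simp [Φ]
  have hdot : ∀ k, φ ⬝ᵥ R k = (k.choose (n - 1) : F) := by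
    intro k
    simp only [hφ, R, E]
    rw [single_dotProduct, one_mul, Matrix.mulVec_single_one]
    show ((u ^ k : Matrix.SpecialLinearGroup (Fin n) F) : Matrix (Fin n) (Fin n) F) Z L = _
    rw [hu, regU_coe_pow, if_pos (Nat.zero_le _)]
    simp [Z, L]
  have hdot0 : ∀ k, k ≤ n - 2 → φ ⬝ᵥ R k = 0 := fun k hk => by
    rw [hdot, Nat.choose_eq_zero_of_lt (by omega), Nat.cast_zero]
  have hshift : ∀ k i, Φ k ⬝ᵥ R (k + i) = φ ⬝ᵥ R i := by
    intro k i
    simp only [Φ, R]
    rw [← dotProduct_mulVec, mulVec_mulVec, ← Matrix.SpecialLinearGroup.coe_mul, pow_add,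
      inv_mul_cancel_left]
  have hdotΦ : ∀ k i, k ≤ i → i - k ≤ n - 2 → Φ k ⬝ᵥ R i = 0 := fun k i hki hik => by
    have := hshift k (i - k)
    rwa [Nat.add_sub_cancel' hki, hdot0 _ hik] at this
  have hself : ∀ k, Φ k ⬝ᵥ R k = 0 := fun k => hdotΦ k k le_rfl (by omega)
  have hmoveR : ∀ k i, ((u ^ k : Matrix.SpecialLinearGroup (Fin n) F) : Matrix (Fin n) (Fin n) F) *ᵥ R i = R (k + i) := by
    intro k i
    simp only [R]
    rw [mulVec_mulVec, ← Matrix.SpecialLinearGroup.coe_mul, pow_add]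
  have hmoveΦ : ∀ k i, Φ i ᵥ* (((u ^ k)⁻¹ : Matrix.SpecialLinearGroup (Fin n) F) : Matrix (Fin n) (Fin n) F) = Φ (k + i) := by
    intro k i
    simp only [Φ]
    rw [vecMul_vecMul, ← Matrix.SpecialLinearGroup.coe_mul, pow_add, _root_.mul_inv_rev]
  -- the sign
  set γ := Φ 1 ⬝ᵥ R 0 with hγ
  have hγ2 : γ * γ = 1 := by
    let r : Fin n → F := fun j => (-1 : F) ^ (n - 1 - (j : ℕ))
    have hr : (u : Matrix (Fin n) (Fin n) F) *ᵥ r = E L := by
      funext i
      simp only [hu, regU, Matrix.add_mulVec, Matrix.one_mulVec, Pi.add_apply, E, Pi.single_apply]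
      by_cases hi : i = L
      · subst hi
        rw [if_pos rfl, Matrix.mulVec, dotProduct, Finset.sum_eq_zero]
        · simp [r, L]
        · intro b _
          simp only [supDiag, Matrix.of_apply, L]
          rw [if_neg (by omega), zero_mul]
      · rw [if_neg hi, Matrix.mulVec, dotProduct]
        have hi' : (i : ℕ) + 1 < n := by
          have h1 : (i : ℕ) ≠ n - 1 := fun h => hi (Fin.ext h)
          omega
        rw [Finset.sum_eq_single (⟨(i : ℕ) + 1, hi'⟩ : Fin n)]
        · simp only [supDiag, Matrix.of_apply, if_pos, one_mul, r]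
          rw [show n - 1 - (i : ℕ) = (n - 1 - ((i : ℕ) + 1)) + 1 by omega, pow_succ]
          ring
        · intro b _ hb
          simp only [supDiag, Matrix.of_apply]
          rw [if_neg (fun h => hb (Fin.ext h)), zero_mul]
        · simp
    have h2 := mulVec_inv_of_eq hr
    have : γ = r Z := by
      rw [hγ]
      simp only [Φ, pow_one, hR0]
      rw [← dotProduct_mulVec, h2]
      simp [hφ, E, single_dotProduct]
    rw [this]
    simp only [r]
    rw [← mul_pow, neg_mul_neg, one_mul, one_pow]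
  -- the generator of the field and the conjugating element
  obtain ⟨θ, hθ⟩ := IsCyclic.exists_generator (α := Fˣ)
  set c : F := (θ : F) with hc
  have hc0 : c ≠ 0 := θ.ne_zero
  set t := tv (hself 0) c with ht
  refine ⟨t, ?_⟩
  set H := Subgroup.closure ({u, t * u * t⁻¹} : Set (Matrix.SpecialLinearGroup (Fin n) F)) with hH
  have huH : u ∈ H := Subgroup.subset_closure (by simp)
  have hvH : t * u * t⁻¹ ∈ H := Subgroup.subset_closure (by simp)
  have hconj : ∀ k i j (h : Φ i ⬝ᵥ R j = 0) (h' : Φ (k + i) ⬝ᵥ R (k + j) = 0) (a : F),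
      u ^ k * tv h a * (u ^ k)⁻¹ = tv h' a := by
    intro k i j h h' a
    have hd := dot_conj h (u ^ k)
    rw [tv_conj h (u ^ k) a hd]
    exact tv_congr _ _ _ _ (by rw [hmoveR, hmoveΦ])
  -- the first transvection
  have hT : tv (hdotΦ 0 2 (by omega) (by omega)) (c ^ 3) ∈ H := by
    set t₁ := tv (hself 1) c with ht1
    set t₂ := tv (hself 2) c with ht2
    have hd : ∀ k (a b : Matrix.SpecialLinearGroup (Fin n) F), a = u ^ k * t * (u ^ k)⁻¹ →
        b = u ^ (k + 1) * t * (u ^ (k + 1))⁻¹ → a * b⁻¹ ∈ H := by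
      intro k a b ha hb
      have : a * b⁻¹ = u ^ k * ((t * u * t⁻¹) * u⁻¹) * (u ^ k)⁻¹ := by
        rw [ha, hb, pow_succ]; group
      rw [this]
      exact mul_mem (mul_mem (pow_mem huH k) (mul_mem hvH (inv_mem huH))) (inv_mem (pow_mem huH k))
    have ha : t * t₁⁻¹ ∈ H := hd 0 t t₁ (by simp) (hconj 1 0 0 (hself 0) (hself 1) c).symm
    have hb : t₁ * t₂⁻¹ ∈ H := hd 1 t₁ t₂ (hconj 1 0 0 (hself 0) (hself 1) c).symm
      (hconj 2 0 0 (hself 0) (hself 2) c).symm
    have d01 : Φ 0 ⬝ᵥ R 1 = 0 := hdotΦ 0 1 (by omega) (by omega)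
    have d02 : Φ 0 ⬝ᵥ R 2 = 0 := hdotΦ 0 2 (by omega) (by omega)
    have d12 : Φ 1 ⬝ᵥ R 2 = 0 := hdotΦ 1 2 (by omega) (by omega)
    have g21 : Φ 2 ⬝ᵥ R 1 = γ := by
      rw [hγ, ← hmoveΦ 1 1, ← hmoveR 1 0, ← dotProduct_mulVec, mulVec_mulVec,
        ← Matrix.SpecialLinearGroup.coe_mul, inv_mul_cancel, Matrix.SpecialLinearGroup.coe_one,
        one_mulVec]
    have hW : t * tv d12 (-(c * c * γ)) =
        tv d02 (c ^ 3) * (tv d12 (-(c * c * γ)) * t) := by
      rw [ht, tv_swap (hself 0) d12 d02]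
      congr 2
      rw [← hγ]
      linear_combination (c ^ 3) * hγ2
    have key := double_commutator t t₁ t₂ (tv d01 (-(c * c * γ))) (tv d12 (-(c * c * γ)))
      (tv d02 (-(c * c * (Φ 2 ⬝ᵥ R 0)))) (tv d02 (c ^ 3))
      (tv_swap (hself 0) (hself 1) d01 c c)
      (by rw [ht1, ht2, tv_swap (hself 1) (hself 2) d12 c c, g21])
      (tv_swap (hself 0) (hself 2) d02 c c) hW
      (tv_commute _ _ d01 (hself 0) _ _) (tv_commute _ _ (hself 1) d01 _ _)
      (tv_commute _ _ d12 (hself 1) _ _) (tv_commute _ _ (hself 2) d12 _ _).symm.symm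
      (tv_commute _ _ d02 (hself 0) _ _) (tv_commute _ _ d12 d01 _ _) (tv_commute _ _ (hself 2) d02 _ _)
      (tv_commute _ _ d12 d02 _ _) (tv_commute _ _ d02 d01 _ _)
      (tv_commute _ _ d02 (hself 0) _ _) (tv_commute _ _ d12 d01 _ _) (tv_commute _ _ (hself 2) d02 _ _)
      (tv_commute _ _ d12 d02 _ _) (tv_commute _ _ d02 d02 _ _)
    rw [← key, commutatorElement_def, commutatorElement_def]
    have hz := mul_mem (mul_mem (mul_mem ha hb) (inv_mem ha)) (inv_mem hb)
    exact mul_mem (mul_mem (mul_mem ha hz) (inv_mem ha)) (inv_mem hz)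
  -- parameter sets
  let P : ℕ → F → Prop := fun b α => ∃ h : Φ 0 ⬝ᵥ R b = 0, tv h α ∈ H
  have Pneg : ∀ b α, P b α → P b (-α) := fun b α ⟨h, hm⟩ => ⟨h, tv_inv h α ▸ inv_mem hm⟩
  have Padd : ∀ b α β, P b α → P b β → P b (α + β) := fun b α β ⟨h, hm⟩ ⟨_, hm'⟩ =>
    ⟨h, by rw [tv_add]; exact mul_mem hm hm'⟩
  have Praise : ∀ b α, b + 1 ≤ n - 2 → P b α → P (b + 1) (c * α) := by
    rintro b α hb ⟨h, hm⟩
    have hU : Φ 1 ⬝ᵥ R (1 + b) = 0 := hdotΦ 1 (1 + b) (by omega) (by omega)
    have hcomm : t⁻¹ * tv h α * t = tv h α := by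
      rw [mul_assoc, ((tv_commute (hself 0) h h (hself 0) c α).eq).symm, inv_mul_cancel_left]
    have he : (t * u * t⁻¹) * tv h α * (t * u * t⁻¹)⁻¹ = t * tv hU α * t⁻¹ := by
      calc (t * u * t⁻¹) * tv h α * (t * u * t⁻¹)⁻¹
          = t * (u ^ 1 * (t⁻¹ * tv h α * t) * (u ^ 1)⁻¹) * t⁻¹ := by group
        _ = t * tv hU α * t⁻¹ := by rw [hcomm, hconj 1 0 b h hU α]
    have hUm : tv hU α ∈ H := by
      rw [← hconj 1 0 b h hU α]
      exact mul_mem (mul_mem (pow_mem huH 1) hm) (inv_mem (pow_mem huH 1))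
    have hd : Φ 0 ⬝ᵥ R (b + 1) = 0 := hdotΦ 0 (b + 1) (by omega) (by omega)
    have hd' : Φ 0 ⬝ᵥ R (1 + b) = 0 := by rwa [add_comm]
    have hmem : tv hd' (-(c * α * γ)) ∈ H := by
      have := mul_mem (mul_mem (mul_mem hvH hm) (inv_mem hvH)) (inv_mem hUm)
      rwa [he, show t * tv hU α * t⁻¹ * (tv hU α)⁻¹ = ⁅tv (hself 0) c, tv hU α⁆ by
        rw [commutatorElement_def], tv_commutator (hself 0) hU hd', ← hγ] at this
    rcases mul_self_eq_one_iff.mp hγ2 with e | e
    · rw [e, mul_one] at hmem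
      refine ⟨hd, ?_⟩
      have := inv_mem hmem
      rw [tv_inv, neg_neg] at this
      convert this using 2 <;> first | rw [add_comm] | skip
    · rw [e, mul_neg, mul_one, neg_neg] at hmem
      refine ⟨hd, ?_⟩
      convert hmem using 2 <;> first | rw [add_comm] | skip
  have Praise' : ∀ d b α, b + d ≤ n - 2 → P b α → P (b + d) (c ^ d * α) := by
    intro d
    induction d with
    | zero => intro b α _ h; simpa using h
    | succ d ih =>
      intro b α hb h
      have := Praise (b + d) _ (by omega) (ih b α (by omega) h)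
      rwa [← mul_assoc, ← pow_succ'] at this
  have Pmul : ∀ i j l α β, i ≤ n - 2 → j ≤ n - 2 → n - 1 + l ≤ i + j →
      P i α → P j β → P (i + j - (n - 1 + l)) (α * β * ((n - 1 + l).choose (n - 1) : F)) := by
    rintro i j l α β hi hj hij ⟨h, hm⟩ ⟨h', hm'⟩
    set k := n - 1 + l - j with hk
    have hY : Φ k ⬝ᵥ R (k + j) = 0 := hdotΦ k (k + j) (by omega) (by omega)
    have hYm : tv hY β ∈ H := by
      rw [← hconj k 0 j h' hY β]
      exact mul_mem (mul_mem (pow_mem huH k) hm') (inv_mem (pow_mem huH k))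
    have hd : Φ k ⬝ᵥ R i = 0 := hdotΦ k i (by omega) (by omega)
    have hd0 : Φ 0 ⬝ᵥ R (i + j - (n - 1 + l)) = 0 := hdotΦ 0 _ (by omega) (by omega)
    have hval : Φ 0 ⬝ᵥ R (k + j) = ((n - 1 + l).choose (n - 1) : F) := by
      rw [hΦ0, hdot, show k + j = n - 1 + l by omega]
    have hc : ⁅tv hY β, tv h α⁆ ∈ H := by
      rw [commutatorElement_def]
      exact mul_mem (mul_mem (mul_mem hYm hm) (inv_mem hYm)) (inv_mem hm)
    rw [tv_commutator hY h hd, hval] at hc
    have hd' : Φ (k + 0) ⬝ᵥ R (k + (i + j - (n - 1 + l))) = 0 := hdotΦ _ _ (by omega) (by omega)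
    have he := hconj k 0 _ hd0 hd' (-(β * α * ((n - 1 + l).choose (n - 1) : F)))
    have : tv hd0 (-(β * α * ((n - 1 + l).choose (n - 1) : F))) ∈ H := by
      have e2 : tv hd0 (-(β * α * ((n - 1 + l).choose (n - 1) : F))) =
          (u ^ k)⁻¹ * tv hd' (-(β * α * ((n - 1 + l).choose (n - 1) : F))) * u ^ k := by
        rw [← he]; group
      rw [e2]
      refine mul_mem (mul_mem (inv_mem (pow_mem huH k)) ?_) (pow_mem huH k)
      convert hc using 2 <;> first | rw [add_zero] | rw [show k + (i + j - (n - 1 + l)) = i by omega]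
    have := Pneg _ _ ⟨hd0, this⟩
    rwa [neg_neg, mul_comm β α] at this
  have Pmul0 : ∀ i j α β, i ≤ n - 2 → j ≤ n - 2 → n - 1 ≤ i + j →
      P i α → P j β → P (i + j - (n - 1)) (α * β) := by
    intro i j α β hi hj hij h h'
    simpa using Pmul i j 0 α β hi hj (by omega) h h'
  have P2 : P 2 (c ^ 3) := ⟨_, hT⟩
  have Ptop : P (n - 2) (c ^ (n - 1)) := by
    have := Praise' (n - 4) 2 _ (by omega) P2
    rwa [← pow_add, show 2 + (n - 4) = n - 2 by omega, show n - 4 + 3 = n - 1 by omega] at this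
  -- the subfield
  let A : F → Prop := fun x => P 0 (x / c ^ (n - 1))
  have hcn : c ^ (n - 1) ≠ 0 := pow_ne_zero _ hc0
  have Amul : ∀ x y, A x → A y → A (x * y) := by
    intro x y hx hy
    have h1 := Praise' 1 0 _ (by omega) hx
    have h0 := Praise' (n - 2) 0 _ (by omega) hy
    simp only [zero_add] at h0 h1
    have h2 := Pmul0 (n - 2) 1 _ _ le_rfl (by omega) (by omega) h0 h1
    simp only [show n - 2 + 1 - (n - 1) = 0 by omega] at h2
    show P 0 _
    convert h2 using 1
    have e : c ^ (n - 1) = c ^ (n - 2) * c := by rw [← pow_succ]; congr 1; omega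
    rw [e, pow_one]
    field_simp
  have Aadd : ∀ x y, A x → A y → A (x + y) := fun x y hx hy => by
    show P 0 _
    rw [add_div]; exact Padd _ _ _ hx hy
  have Apow : ∀ x m, A x → A (x ^ (m + 1)) := by
    intro x m hx
    induction m with
    | zero => simpa using hx
    | succ m ih => rw [pow_succ]; exact Amul _ _ ih hx
  have hfinord : ∀ x : F, x ≠ 0 → ∃ m, x ^ (m + 1) = 1 := by
    intro x hx
    haveI := Fintype.ofFinite F
    exact ⟨Fintype.card F - 1 - 1, by
      have := Fintype.one_lt_card (α := F)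
      rw [show Fintype.card F - 1 - 1 + 1 = Fintype.card F - 1 by omega,
        FiniteField.pow_card_sub_one_eq_one x hx]⟩
  have A3n : A (c ^ (3 * n)) := by
    have h1 := Pmul0 (n - 2) 2 _ _ le_rfl (by omega) (by omega) Ptop P2
    simp only [show n - 2 + 2 - (n - 1) = 1 by omega] at h1
    have h2 := Pmul0 (n - 2) 1 _ _ le_rfl (by omega) (by omega) Ptop h1
    simp only [show n - 2 + 1 - (n - 1) = 0 by omega] at h2
    show P 0 _
    convert h2 using 1
    rw [div_eq_iff hcn, ← pow_add, ← pow_add, ← pow_add]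
    congr 1
    omega
  have A1 : A 1 := by
    obtain ⟨m, hm⟩ := hfinord _ (pow_ne_zero (3 * n) hc0)
    rw [← hm]
    exact Apow _ _ A3n
  have Ainv : ∀ x, A x → A x⁻¹ := by
    intro x hx
    by_cases h0 : x = 0
    · subst h0; simpa using hx
    · obtain ⟨m, hm⟩ := hfinord x h0
      rcases m with _ | m
      · rw [zero_add, pow_one] at hm; rw [hm, inv_one]; exact A1
      · rw [show x⁻¹ = x ^ (m + 1) from inv_eq_of_mul_eq_one_right (by rw [← pow_succ', hm])]
        exact Apow _ _ hx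
  have Anat : ∀ m : ℕ, A (m : F) := by
    intro m
    induction m with
    | zero =>
      show P 0 _
      rw [Nat.cast_zero, zero_div]
      exact ⟨hself 0, by rw [tv_zero]; exact one_mem H⟩
    | succ m ih => rw [Nat.cast_succ]; exact Aadd _ _ ih A1
  have P1 : P 1 (c * (1 / c ^ (n - 1))) := by simpa using Praise' 1 0 _ (by omega) A1
  have Acn : A (c ^ n) := by
    have h := Pmul0 (n - 2) 1 _ _ le_rfl (by omega) (by omega) Ptop P1
    simp only [show n - 2 + 1 - (n - 1) = 0 by omega] at h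
    show P 0 _
    convert h using 1
    field_simp
    rw [← pow_succ, show n - 1 + 1 = n by omega]
  -- a non-vanishing binomial coefficient
  haveI := Fintype.ofFinite F
  obtain ⟨p, hchar⟩ := CharP.exists F
  haveI : Fact p.Prime := ⟨CharP.char_is_prime F p⟩
  obtain ⟨a, m, hpm, hnam⟩ := Nat.exists_eq_pow_mul_and_not_dvd (show n ≠ 0 by omega) p
    (Fact.out : p.Prime).one_lt.ne'
  have Acl : A (c ^ (p ^ a)) := by
    by_cases hm1 : m = 1
    · rw [hm1, mul_one] at hnam; rwa [← hnam]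
    · have hm2 : 2 ≤ m := by
        rcases Nat.lt_or_ge m 2 with h | h
        · interval_cases m
          · simp at hpm
          · exact absurd rfl hm1
        · exact h
      have hle : p ^ a + 3 ≤ n := by
        have hp := (Fact.out : p.Prime).two_le
        rcases Nat.lt_or_ge (p ^ a) 3 with h | h
        · by_cases h6 : 6 ≤ n
          · omega
          · by_cases h1 : p ^ a = 1
            · omega
            · have h2 : p ^ a = 2 := by have := Nat.one_le_pow a p (by omega); omega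
              have hp2 : p = 2 := by
                rcases a with _ | a
                · simp at h2
                · exact ((Nat.prime_dvd_prime_iff_eq Fact.out Nat.prime_two).mp
                    (h2 ▸ dvd_pow_self p (Nat.succ_ne_zero a)))
              rw [h2] at hnam
              have : m ≠ 2 := fun e => hpm (by rw [hp2, e])
              omega
        · have := Nat.mul_le_mul_left (p ^ a) hm2
          omega
      set l := p ^ a with hl
      set B : F := ((n - 1 + l).choose (n - 1) : F) with hB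
      have hBne : B ≠ 0 := by
        rw [hB, Ne, CharP.cast_eq_zero_iff F p]
        intro hdvd
        apply hpm
        have h1 : (n - 1 + l).choose (n - 1) = (n - 1 + l).choose (p ^ a) :=
          Nat.choose_symm_of_eq_add (by omega)
        have h2 := choose_shift_modEq p a (n - 1 + l)
        rw [← h1] at h2
        have h3 : (n - 1 + l) / p ^ a = m := by
          rw [← hl]
          refine Nat.div_eq_of_lt_le ?_ ?_
          · rw [hnam, mul_comm m l]
            have : 1 ≤ l := Nat.one_le_pow a p (Fact.out : p.Prime).pos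
            omega
          · rw [hnam, add_mul, one_mul, mul_comm m l]
            have : 1 ≤ l * m := Nat.mul_pos (Nat.pow_pos (Fact.out : p.Prime).pos) (by omega)
            omega
        rw [h3] at h2
        exact (Nat.ModEq.dvd_iff h2 dvd_rfl).mp hdvd
      have h1 := Pmul (n - 2) (n - 2) l _ _ le_rfl le_rfl (by omega) Ptop Ptop
      have h2 := Praise' (l + 1) _ _ (by omega) h1
      rw [show n - 2 + (n - 2) - (n - 1 + l) + (l + 1) = n - 2 by omega] at h2
      have h3 := Pmul0 (n - 2) 1 _ _ le_rfl (by omega) (by omega) h2 P1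
      simp only [show n - 2 + 1 - (n - 1) = 0 by omega] at h3
      have h4 : A (c ^ (2 * n + l) * B) := by
        show P 0 _
        convert h3 using 1
        rw [← hB]
        have e : c ^ (2 * n + l) = c ^ (l + 1) * c * c ^ (n - 1) * c ^ (n - 1) := by
          rw [← pow_succ, ← pow_add, ← pow_add]; congr 1; omega
        rw [e]
        field_simp
      have h5 := Amul _ _ (Amul _ _ h4 (Ainv _ (Anat ((n - 1 + l).choose (n - 1)))))
        (Amul _ _ (Ainv _ Acn) (Ainv _ Acn))
      rwa [← hB, mul_inv_cancel_right₀ hBne, show c ^ (2 * n + l) * ((c ^ n)⁻¹ * (c ^ n)⁻¹) = c ^ l by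
        rw [← mul_inv, ← pow_add, ← div_eq_mul_inv, div_eq_iff (pow_ne_zero _ hc0), ← pow_add]
        congr 1; omega] at h5
  have Aall : ∀ x, A x := by
    intro x
    by_cases hx : x = 0
    · subst hx; simpa using Anat 0
    · have hinj : Function.Injective (fun y : F => y ^ (p ^ a)) := iterateFrobenius_inj F p a
      obtain ⟨y, hy⟩ := (Finite.injective_iff_surjective.mp hinj) x
      have hy0 : y ≠ 0 := by
        intro h
        apply hx
        rw [← hy, h]
        exact zero_pow (pow_ne_zero _ (Fact.out : p.Prime).pos.ne')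
      obtain ⟨j, hj⟩ := (mem_powers_iff_mem_zpowers).mpr (hθ (Units.mk0 y hy0))
      have hj' : c ^ j = y := by
        have := congrArg (fun z : Fˣ => (z : F)) hj
        simpa using this
      rw [← hy]
      show A (y ^ (p ^ a))
      rw [← hj', ← pow_mul, mul_comm, pow_mul]
      rcases j with _ | j
      · simpa using A1
      · exact Apow _ _ Acl
  have hF0 : Full H (R 0) φ := by
    rw [← hΦ0]
    refine ⟨hself 0, fun x => ?_⟩
    obtain ⟨_, hm⟩ := Aall (x * c ^ (n - 1))
    rwa [mul_div_assoc, div_self hcn, mul_one] at hm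
  have hFb : ∀ b, b ≤ n - 2 → Full H (R b) φ := by
    intro b hb
    induction b with
    | zero => exact hF0
    | succ b ih =>
      have h1 := (ih (by omega)).conj (pow_mem huH 1)
      rw [hmoveR, ← hΦ0, hmoveΦ, add_comm 1 b] at h1
      rw [← hΦ0]
      refine Full.comm (x := R 0) (g := Φ (1 + 0)) (hΦ0 ▸ hF0) h1
        (hdotΦ 0 (b + 1) (by omega) (by omega)) ?_
      show Φ 1 ⬝ᵥ R 0 ≠ 0
      rw [← hγ]
      intro h
      rw [h, mul_zero] at hγ2
      exact zero_ne_one hγ2
  have hne : ∀ i j : Fin n, i ≠ j → E j ⬝ᵥ E i = 0 := fun i j h => by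
    simp [E, single_dotProduct, Pi.single_eq_of_ne h, Pi.single_eq_of_ne (Ne.symm h)]
  -- all centres on the first axis
  have hcol : ∀ i : Fin n, i ≠ Z → Full H (E i) φ := by
    suffices ∀ d, ∀ i : Fin n, (i : ℕ) + d = n - 1 → i ≠ Z → Full H (E i) φ from
      fun i hi => this (n - 1 - (i : ℕ)) i (by omega) hi
    intro d
    induction d using Nat.strong_induction_on with
    | _ d ih =>
      intro i hid hiZ
      have hi0 : (i : ℕ) ≠ 0 := fun h => hiZ (Fin.ext h)
      have hR := hFb d (by omega)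
      have hrest : Full H (R d + (-1 : F) • ∑ j ∈ Finset.univ.filter (fun j : Fin n => (i : ℕ) < (j : ℕ)),
          R d j • E j) φ := by
        refine hR.add_centre (Full.smul_centre (Full.sum_centre _ _ fun j hj => ?_) _)
        rw [Finset.mem_filter] at hj
        exact (ih (n - 1 - (j : ℕ)) (by omega) j (by omega)
          (fun h => by rw [h] at hj; simp [Z] at hj)).smul_centre _
      convert hrest using 1
      funext k
      have hRk : R d k = (d.choose (n - 1 - (k : ℕ)) : F) := by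
        simp only [R, E]
        rw [Matrix.mulVec_single_one]
        show ((u ^ d : Matrix.SpecialLinearGroup (Fin n) F) : Matrix (Fin n) (Fin n) F) k L = _
        rw [hu, regU_coe_pow, if_pos (show (k : ℕ) ≤ (L : ℕ) by simp [L]; omega)]
      rw [neg_one_smul, Pi.add_apply, Pi.neg_apply, Finset.sum_apply]
      simp only [Pi.smul_apply, smul_eq_mul, E, Pi.single_apply, mul_ite, mul_one, mul_zero,
        Finset.sum_ite_eq, Finset.mem_filter, Finset.mem_univ, true_and]
      rw [hRk]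
      rcases lt_trichotomy (k : ℕ) (i : ℕ) with h | h | h
      · rw [if_neg (fun e => by rw [e] at h; omega), if_neg (by omega),
          Nat.choose_eq_zero_of_lt (by omega), Nat.cast_zero, neg_zero, add_zero]
      · rw [if_pos (Fin.ext h), if_neg (by omega), show n - 1 - (k : ℕ) = d by omega, Nat.choose_self,
          Nat.cast_one, neg_zero, add_zero]
      · rw [if_neg (fun e => by rw [e] at h; omega), if_pos h, add_neg_cancel]
  -- all lower root groups
  have hlow : ∀ i j : Fin n, (j : ℕ) < (i : ℕ) → Full H (E i) (E j) := by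
    suffices ∀ d, ∀ i j : Fin n, (j : ℕ) = d → (j : ℕ) < (i : ℕ) → Full H (E i) (E j) from
      fun i j h => this _ i j rfl h
    intro d
    induction d with
    | zero =>
      intro i j hj hij
      rw [show j = Z from Fin.ext hj]
      exact hcol i (fun h => by rw [h] at hij; simp [Z] at hij)
    | succ d ih =>
      intro i j hj hij
      let k : Fin n := ⟨d, by omega⟩
      have h1 := ih i k rfl (by simp [k]; omega)
      let i' : Fin n := ⟨(i : ℕ) - 1, by omega⟩
      -- move the pair of centres `e_i + e_{i-1}` back by `u`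
      have h2 := (h1.add_centre (ih i' k rfl (by simp [k, i']; omega))).conj (inv_mem huH)
      have hui : (u : Matrix (Fin n) (Fin n) F) *ᵥ E i = E i + E i' := by
        funext l
        simp only [hu, E]
        rw [regU_mulVec_single, Pi.add_apply, Pi.single_apply, Pi.single_apply]
        congr 1
        simp [i', Fin.ext_iff]
        split_ifs <;> first | rfl | omega
      rw [mulVec_inv_of_eq hui, inv_inv] at h2
      have huk : E k ᵥ* (u : Matrix (Fin n) (Fin n) F) = E k + E j := by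
        funext l
        simp only [E]
        rw [Matrix.single_one_vecMul]
        simp only [hu, regU, Matrix.row, Matrix.add_apply, Matrix.one_apply, supDiag, Matrix.of_apply,
          Pi.add_apply, Pi.single_apply]
        congr 1
        · simp [eq_comm]
        · simp [k, Fin.ext_iff, hj]
      rw [huk] at h2
      have h3 := h2.add_axis (h1.smul_axis (-1))
      rwa [neg_one_smul, add_neg_cancel_comm] at h3
  -- the first row
  let i₁ : Fin n := ⟨1, by omega⟩
  let i₂ : Fin n := ⟨2, by omega⟩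
  have hZ1 : Z ≠ i₁ := by simp [Z, i₁]
  have hf1 : ∀ y, φ ⬝ᵥ y = 0 → Full H y φ := by
    intro y hy
    rw [sum_coord y]
    refine Full.sum_centre _ _ fun k _ => ?_
    by_cases hk : k = Z
    · have h0 : y k = 0 := by
        subst hk
        simpa [hφ, E, single_dotProduct] using hy
      rw [h0, zero_smul]; exact Full.zero_centre _
    · exact (hcol k hk).smul_centre _
  have hu1 : (u : Matrix (Fin n) (Fin n) F) *ᵥ E i₁ = E i₁ + E Z := by
    funext l
    simp only [hu, E]
    rw [regU_mulVec_single, Pi.add_apply, Pi.single_apply, Pi.single_apply]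
    congr 1
    simp [Z, i₁, Fin.ext_iff, eq_comm]
  have hy1 : Full H (E i₁ + E Z) (Φ 1) := by
    have h := (hf1 (E i₁) (hne _ _ hZ1.symm)).conj (pow_mem huH 1)
    rwa [← hΦ0, hmoveΦ, show ((u ^ 1 : Matrix.SpecialLinearGroup (Fin n) F) : Matrix (Fin n) (Fin n) F) *ᵥ E i₁
      = E i₁ + E Z by rw [pow_one, hu1]] at h
  have hΦ1 : ∀ k : Fin n, Φ 1 ⬝ᵥ E k ≠ 0 := by
    intro k
    let r : Fin n → F := fun j => (-1 : F) ^ (j : ℕ)
    have hr : r ᵥ* (u : Matrix (Fin n) (Fin n) F) = φ := by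
      funext l
      rw [Matrix.vecMul, dotProduct]
      simp only [hu, regU, Matrix.add_apply, Matrix.one_apply, supDiag, Matrix.of_apply, mul_add,
        mul_ite, mul_one, mul_zero, Finset.sum_add_distrib, Finset.sum_ite_eq', Finset.mem_univ, if_true]
      by_cases hl : (l : ℕ) = 0
      · rw [Finset.sum_eq_zero (fun b _ => if_neg (by omega)), add_zero, show l = Z from Fin.ext hl]
        simp [r, hφ, E, Z]
      · rw [Finset.sum_eq_single (⟨(l : ℕ) - 1, by omega⟩ : Fin n)]
        · rw [if_pos (by simp only; omega)]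
          simp only [r, hφ, E]
          rw [Pi.single_eq_of_ne (fun h => hl (by rw [h]))]
          obtain ⟨m, hm⟩ : ∃ m, (l : ℕ) = m + 1 := ⟨(l : ℕ) - 1, by omega⟩
          simp only [hm, Nat.add_sub_cancel, pow_succ]
          ring
        · intro b _ hb
          rw [if_neg (fun h => hb (Fin.ext (by simp only; omega)))]
        · simp
    have : Φ 1 = r := by simp only [Φ, pow_one]; exact vecMul_inv_of_eq hr
    rw [this]
    simp [E, dotProduct_single, r]
  have hrow : ∀ j : Fin n, 2 ≤ (j : ℕ) → (j : ℕ) < n - 1 → Full H (E Z) (E j) := by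
    intro j hj hjn
    let k : Fin n := ⟨(j : ℕ) + 1, by omega⟩
    have hjZ : j ≠ Z := fun h => by rw [h] at hj; simp [Z] at hj
    have hj1 : j ≠ i₁ := fun h => by rw [h] at hj; simp [i₁] at hj
    have h1 : Full H (E i₁ + E Z) (E j) :=
      (hlow k j (by simp [k])).comm hy1
        (by rw [dotProduct_add, hne _ _ hj1.symm, hne _ _ hjZ.symm, add_zero]) (hΦ1 k)
    have hl := hlow i₁ Z (by simp [i₁, Z])
    have h2 := h1.conj (hl.2 (-1))
    have hx : ((tv hl.1 (-1) : Matrix.SpecialLinearGroup (Fin n) F) : Matrix (Fin n) (Fin n) F) *ᵥ (E i₁ + E Z) = E Z := by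
      rw [tv_val, add_mulVec, one_mulVec, smul_mulVec, vecMulVec_mulVec]
      have : E Z ⬝ᵥ (E i₁ + E Z) = 1 := by
        rw [dotProduct_add, hne _ _ hZ1.symm, zero_add]
        simp [E, single_dotProduct]
      rw [this]
      simp
    have hf : E j ᵥ* (((tv hl.1 (-1))⁻¹ : Matrix.SpecialLinearGroup (Fin n) F) : Matrix (Fin n) (Fin n) F) = E j := by
      rw [tv_inv, tv_val, vecMul_add, vecMul_one, vecMul_smul, vecMul_vecMulVec, hne _ _ hj1.symm,
        zero_smul, smul_zero, add_zero]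
    rwa [hx, hf] at h2
  have hZrow : ∀ j : Fin n, j ≠ Z → Full H (E Z) (E j) := by
    intro j hjZ
    have hj0 : (j : ℕ) ≠ 0 := fun h => hjZ (Fin.ext h)
    have h2n : Full H (E Z) (E i₂) := hrow i₂ le_rfl (by simp [i₂]; omega)
    by_cases hj1 : (j : ℕ) = 1
    · rw [show j = i₁ from Fin.ext hj1]
      refine Full.comm (x := E i₂) (f := E i₁) (g := E i₂) (hlow i₂ i₁ (by simp [i₁, i₂])) h2n
        (hne _ _ hZ1) ?_
      simp [E, single_dotProduct]
    by_cases hjn : (j : ℕ) < n - 1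
    · exact hrow j (by omega) hjn
    -- the last axis
    let k : Fin n := ⟨n - 2, by omega⟩
    let L' : Fin n := ⟨n - 1, by omega⟩
    have hk := hrow k (by simp [k]; omega) (by simp [k]; omega)
    have h := hk.conj (inv_mem huH)
    have hu0 : (u : Matrix (Fin n) (Fin n) F) *ᵥ E Z = E Z := by
      funext l
      simp only [hu, E]
      rw [regU_mulVec_single]
      simp [Pi.single_apply, Z]
    have huk : E k ᵥ* (u : Matrix (Fin n) (Fin n) F) = E k + E j := by
      funext l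
      simp only [E]
      rw [Matrix.single_one_vecMul]
      simp only [hu, regU, Matrix.row, Matrix.add_apply, Matrix.one_apply, supDiag, Matrix.of_apply,
        Pi.add_apply, Pi.single_apply]
      congr 1
      · simp [eq_comm]
      · simp [k, Fin.ext_iff]
        split_ifs <;> first | rfl | omega
    rw [mulVec_inv_of_eq hu0, inv_inv, huk] at h
    have h3 := h.add_axis (hk.smul_axis (-1))
    rwa [neg_one_smul, add_neg_cancel_comm] at h3
  refine eq_top_of_full (by omega) fun i j hij => ?_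
  by_cases hi : i = Z
  · subst hi; exact hZrow j (Ne.symm hij)
  by_cases hj : j = Z
  · subst hj; exact hcol i hi
  exact (hZrow j hj).comm (hcol i hi) (hne _ _ hij) (by simp [hφ, E, single_dotProduct])

end CfsgLib.RegGen
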