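import Cfsg.Agent.Lib.RootSub.TransvSL

set_option autoImplicit false

/-!
Full transvection groups inside a subgroup of `SL_n`: closure rules.
-/

open Matrix
open scoped commutatorElement

namespace CfsgLib.RegGen

open CfsgLib.RootSub.TSL

variable {F : Type*} [Field F] {n : ℕ}


/-- The subgroup contains the whole transvection group of the centre `x` and the axis `f`. -/
def Full (H : Subgroup (Matrix.SpecialLinearGroup (Fin n) F)) (x f : Fin n → F) : Prop :=
  ∃ h : f ⬝ᵥ x = 0, ∀ c : F, tv h c ∈ H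

theorem tv_congr {x y f g : Fin n → F} (hx : f ⬝ᵥ x = 0) (hy : g ⬝ᵥ y = 0) (a b : F)
    (h : a • vecMulVec x f = b • vecMulVec y g) : tv hx a = tv hy b := Subtype.ext (by
  rw [tv_val, tv_val, h])

theorem tv_conj {x f : Fin n → F} (h : f ⬝ᵥ x = 0) (g : (Matrix.SpecialLinearGroup (Fin n) F)) (c : F)
    (h' : (f ᵥ* ((g⁻¹ : (Matrix.SpecialLinearGroup (Fin n) F)) : Matrix (Fin n) (Fin n) F)) ⬝ᵥ ((g : Matrix (Fin n) (Fin n) F) *ᵥ x) = 0) :
    g * tv h c * g⁻¹ = tv h' c := Subtype.ext (by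
  have h1 : (g : Matrix (Fin n) (Fin n) F) * ((g⁻¹ : (Matrix.SpecialLinearGroup (Fin n) F)) : Matrix (Fin n) (Fin n) F) = 1 := by
    rw [← Matrix.SpecialLinearGroup.coe_mul, mul_inv_cancel, Matrix.SpecialLinearGroup.coe_one]
  rw [Matrix.SpecialLinearGroup.coe_mul, Matrix.SpecialLinearGroup.coe_mul, tv_val, tv_val,
    Matrix.mul_add, Matrix.mul_one, Matrix.add_mul, h1, Matrix.mul_smul, Matrix.smul_mul,
    mul_vecMulVec, vecMulVec_mul])

theorem dot_conj {x f : Fin n → F} (h : f ⬝ᵥ x = 0) (g : (Matrix.SpecialLinearGroup (Fin n) F)) :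
    (f ᵥ* ((g⁻¹ : (Matrix.SpecialLinearGroup (Fin n) F)) : Matrix (Fin n) (Fin n) F)) ⬝ᵥ ((g : Matrix (Fin n) (Fin n) F) *ᵥ x) = 0 := by
  rw [← dotProduct_mulVec, mulVec_mulVec, ← Matrix.SpecialLinearGroup.coe_mul, inv_mul_cancel,
    Matrix.SpecialLinearGroup.coe_one, one_mulVec, h]

theorem tv_commutator {x f y g : Fin n → F} (hx : f ⬝ᵥ x = 0) (hy : g ⬝ᵥ y = 0) (hfy : f ⬝ᵥ y = 0)
    (a b : F) : ⁅tv hx a, tv hy b⁆ = tv hfy (-(a * b * (g ⬝ᵥ x))) := by
  rw [commutatorElement_def, mul_inv_eq_iff_eq_mul, mul_inv_eq_iff_eq_mul]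
  refine Subtype.ext ?_
  simp only [Matrix.SpecialLinearGroup.coe_mul, tv_val, Matrix.add_mul, Matrix.mul_add, Matrix.one_mul,
    Matrix.mul_one, Matrix.smul_mul, Matrix.mul_smul, vv_mul, hfy, hx, hy, zero_smul, smul_zero,
    add_zero, smul_add, smul_smul, mul_zero, zero_mul]
  module

theorem tv_add_centre {x y f : Fin n → F} (hx : f ⬝ᵥ x = 0) (hy : f ⬝ᵥ y = 0)
    (h : f ⬝ᵥ (x + y) = 0) (c : F) : tv h c = tv hx c * tv hy c := Subtype.ext (by
  rw [Matrix.SpecialLinearGroup.coe_mul, tv_val, tv_val, tv_val]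
  simp only [Matrix.add_mul, Matrix.mul_add, Matrix.one_mul, Matrix.mul_one, Matrix.smul_mul,
    Matrix.mul_smul, vv_mul, hy, zero_smul, smul_zero, add_zero, add_vecMulVec, smul_add]
  abel)

theorem tv_add_axis {x f g : Fin n → F} (hf : f ⬝ᵥ x = 0) (hg : g ⬝ᵥ x = 0)
    (h : (f + g) ⬝ᵥ x = 0) (c : F) : tv h c = tv hf c * tv hg c := Subtype.ext (by
  rw [Matrix.SpecialLinearGroup.coe_mul, tv_val, tv_val, tv_val]
  simp only [Matrix.add_mul, Matrix.mul_add, Matrix.one_mul, Matrix.mul_one, Matrix.smul_mul,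
    Matrix.mul_smul, vv_mul, hf, zero_smul, smul_zero, add_zero, vecMulVec_add, smul_add]
  abel)

variable {H : Subgroup (Matrix.SpecialLinearGroup (Fin n) F)}

theorem Full.zero_centre (f : Fin n → F) : Full H 0 f := by
  refine ⟨dotProduct_zero f, fun c => ?_⟩
  have : tv (dotProduct_zero f) c = (1 : (Matrix.SpecialLinearGroup (Fin n) F)) := Subtype.ext (by simp [tv_val])
  rw [this]
  exact one_mem H

theorem Full.zero_axis (x : Fin n → F) : Full H x 0 := by
  refine ⟨zero_dotProduct x, fun c => ?_⟩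
  have : tv (zero_dotProduct x) c = (1 : (Matrix.SpecialLinearGroup (Fin n) F)) := Subtype.ext (by simp [tv_val])
  rw [this]
  exact one_mem H

theorem Full.add_centre {x y f : Fin n → F} (hx : Full H x f) (hy : Full H y f) : Full H (x + y) f := by
  refine ⟨by rw [dotProduct_add, hx.1, hy.1, add_zero], fun c => ?_⟩
  rw [tv_add_centre hx.1 hy.1 _ c]
  exact mul_mem (hx.2 c) (hy.2 c)

theorem Full.add_axis {x f g : Fin n → F} (hf : Full H x f) (hg : Full H x g) : Full H x (f + g) := by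
  refine ⟨by rw [add_dotProduct, hf.1, hg.1, add_zero], fun c => ?_⟩
  rw [tv_add_axis hf.1 hg.1 _ c]
  exact mul_mem (hf.2 c) (hg.2 c)

theorem Full.smul_centre {x f : Fin n → F} (hx : Full H x f) (a : F) : Full H (a • x) f := by
  refine ⟨by rw [dotProduct_smul, hx.1, smul_zero], fun c => ?_⟩
  rw [tv_congr _ hx.1 c (c * a) (by rw [smul_vecMulVec, smul_smul])]
  exact hx.2 _

theorem Full.smul_axis {x f : Fin n → F} (hx : Full H x f) (a : F) : Full H x (a • f) := by
  refine ⟨by rw [smul_dotProduct, hx.1, smul_zero], fun c => ?_⟩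
  rw [tv_congr _ hx.1 c (c * a) (by rw [vv_smul, smul_smul])]
  exact hx.2 _

theorem Full.sum_axis {κ : Type*} {x : Fin n → F} (s : Finset κ) (f : κ → Fin n → F)
    (h : ∀ i ∈ s, Full H x (f i)) : Full H x (∑ i ∈ s, f i) :=
  Finset.sum_induction f (Full H x) (fun _ _ => Full.add_axis) (Full.zero_axis x) h

theorem Full.sum_centre {κ : Type*} {f : Fin n → F} (s : Finset κ) (x : κ → Fin n → F)
    (h : ∀ i ∈ s, Full H (x i) f) : Full H (∑ i ∈ s, x i) f :=
  Finset.sum_induction x (Full H · f) (fun _ _ => Full.add_centre) (Full.zero_centre f) h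

theorem Full.conj {x f : Fin n → F} (hx : Full H x f) {g : (Matrix.SpecialLinearGroup (Fin n) F)} (hg : g ∈ H) :
    Full H ((g : Matrix (Fin n) (Fin n) F) *ᵥ x) (f ᵥ* ((g⁻¹ : (Matrix.SpecialLinearGroup (Fin n) F)) : Matrix (Fin n) (Fin n) F)) := by
  refine ⟨dot_conj hx.1 g, fun c => ?_⟩
  rw [← tv_conj hx.1 g c]
  exact mul_mem (mul_mem hg (hx.2 c)) (inv_mem hg)

/-- The commutator of two transvection groups. -/
theorem Full.comm {x f y g : Fin n → F} (hx : Full H x f) (hy : Full H y g) (hfy : f ⬝ᵥ y = 0)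
    (hgx : g ⬝ᵥ x ≠ 0) : Full H y f := by
  refine ⟨hfy, fun c => ?_⟩
  have : tv hfy c = ⁅tv hx.1 (-(c / (g ⬝ᵥ x))), tv hy.1 1⁆ := by
    rw [tv_commutator hx.1 hy.1 hfy]
    congr 1
    field_simp
  rw [this, commutatorElement_def]
  exact mul_mem (mul_mem (mul_mem (hx.2 _) (hy.2 _)) (inv_mem (hx.2 _))) (inv_mem (hy.2 _))

theorem sum_coord (f : Fin n → F) : f = ∑ k, f k • (Pi.single k (1 : F) : Fin n → F) := by
  funext j
  simp [Finset.sum_apply, Pi.single_apply]

/-- A subgroup with all elementary transvection groups is everything. -/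
theorem eq_top_of_full (hn : 2 ≤ n)
    (h : ∀ i j : Fin n, i ≠ j → Full H (Pi.single i (1 : F)) (Pi.single j (1 : F))) : H = ⊤ := by
  haveI : Nontrivial (Fin n) := Fin.nontrivial_iff_two_le.mpr hn
  refine CfsgLib.Classical.eq_top_of_transvection_mem H fun i j hij c => ?_
  obtain ⟨hd, hc⟩ := h i j hij
  have : SpecialLinearGroup.transvection hij c = tv hd c := Subtype.ext (by
    rw [tv_val, SpecialLinearGroup.transvection_coe]
    congr 1
    ext a b
    simp [vecMulVec_apply, Matrix.single_apply, Pi.single_apply, eq_comm]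
    split_ifs <;> first | rfl | tauto)
  rw [this]
  exact hc c

end CfsgLib.RegGen
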